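import Mathlib.GroupTheory.Coxeter.Basic
import Mathlib.GroupTheory.OrderOfElement
import Mathlib.Order.SetNotation
import Mathlib.Order.Lattice.Nat
import Mathlib.Tactic.Group

/-!
Abstract exchange systems: a group generated by involutions satisfying the exchange condition is a
Coxeter group (Matsumoto's theorem).
-/

set_option autoImplicit false

namespace CfsgLib.BN

variable {W ι : Type*} [Group W]

/-- The length of `w` with respect to the generating family `f`. -/
noncomputable def wlen (f : ι → W) (w : W) : ℕ :=
  sInf {k | ∃ l : List ι, l.length = k ∧ (l.map f).prod = w}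

/-- `w` is a word in the letters from `J`. -/
def InW (f : ι → W) (J : Set ι) (w : W) : Prop :=
  ∃ l : List ι, (∀ i ∈ l, i ∈ J) ∧ (l.map f).prod = w

theorem wlen_le (f : ι → W) (l : List ι) : wlen f (l.map f).prod ≤ l.length :=
  Nat.sInf_le ⟨l, rfl, rfl⟩

theorem wlen_le_of_eq (f : ι → W) {l : List ι} {w : W} (h : (l.map f).prod = w) :
    wlen f w ≤ l.length := h ▸ wlen_le f l

theorem wlen_one (f : ι → W) : wlen f 1 = 0 :=
  Nat.le_zero.1 (wlen_le_of_eq f (l := []) (by simp))

theorem wlen_apply_le (f : ι → W) (i : ι) : wlen f (f i) ≤ 1 :=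
  wlen_le_of_eq f (l := [i]) (by simp)

theorem exists_reduced {f : ι → W} (hgen : ∀ w, ∃ l : List ι, (l.map f).prod = w) (w : W) :
    ∃ l : List ι, (l.map f).prod = w ∧ l.length = wlen f w := by
  have hne : {k | ∃ l : List ι, l.length = k ∧ (l.map f).prod = w}.Nonempty := by
    obtain ⟨l, hl⟩ := hgen w
    exact ⟨_, l, rfl, hl⟩
  obtain ⟨l, h1, h2⟩ := Nat.sInf_mem hne
  exact ⟨l, h2, h1⟩

theorem eq_one_of_wlen_eq_zero {f : ι → W} (hgen : ∀ w, ∃ l : List ι, (l.map f).prod = w) {w : W}
    (h : wlen f w = 0) : w = 1 := by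
  obtain ⟨l, h1, h2⟩ := exists_reduced hgen w
  rw [h, List.length_eq_zero_iff] at h2
  subst h2
  simpa using h1.symm

theorem wlen_mul_apply_le {f : ι → W} (hgen : ∀ w, ∃ l : List ι, (l.map f).prod = w)
    (i : ι) (w : W) : wlen f (f i * w) ≤ wlen f w + 1 := by
  obtain ⟨l, h1, h2⟩ := exists_reduced hgen w
  exact (wlen_le_of_eq f (l := i :: l) (by simp [h1])).trans (by simp [h2])

theorem le_wlen_mul_apply {f : ι → W} (hgen : ∀ w, ∃ l : List ι, (l.map f).prod = w)
    (hsq : ∀ i, f i * f i = 1) (i : ι) (w : W) : wlen f w ≤ wlen f (f i * w) + 1 := by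
  have := wlen_mul_apply_le hgen i (f i * w)
  rwa [← mul_assoc, hsq, one_mul] at this

theorem exists_first {f : ι → W} (hgen : ∀ w, ∃ l : List ι, (l.map f).prod = w) {w : W}
    (h : w ≠ 1) : ∃ i v, w = f i * v ∧ wlen f v < wlen f w := by
  obtain ⟨l, h1, h2⟩ := exists_reduced hgen w
  rcases l with _ | ⟨i, a⟩
  · exact absurd (by simpa using h1.symm) h
  · refine ⟨i, (a.map f).prod, by simp [← h1], ?_⟩
    rw [← h2]
    exact Nat.lt_succ_of_le (wlen_le f a)

theorem exists_last {f : ι → W} (hgen : ∀ w, ∃ l : List ι, (l.map f).prod = w) {w : W}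
    (h : w ≠ 1) : ∃ i v, w = v * f i ∧ wlen f v < wlen f w := by
  obtain ⟨l, h1, h2⟩ := exists_reduced hgen w
  rcases List.eq_nil_or_concat l with rfl | ⟨a, i, rfl⟩
  · exact absurd (by simpa using h1.symm) h
  · refine ⟨i, (a.map f).prod, by simp [← h1], ?_⟩
    rw [← h2, List.length_concat]
    exact Nat.lt_succ_of_le (wlen_le f a)

/-- An exchange system: a generating family of involutions with the exchange condition. -/
structure ExchSys (W ι : Type*) [Group W] where
  f : ι → W
  sq : ∀ i, f i * f i = 1
  gen : ∀ w, ∃ l : List ι, (l.map f).prod = w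
  inj : Function.Injective f
  ne_one : ∀ i, f i ≠ 1
  exch : ∀ (i : ι) (l : List ι), wlen f (f i * (l.map f).prod) ≤ wlen f (l.map f).prod →
    ∃ j < l.length, f i * (l.map f).prod = ((l.eraseIdx j).map f).prod

namespace ExchSys

variable (E : ExchSys W ι)

theorem mul_cancel (i : ι) (w : W) : E.f i * (E.f i * w) = w := by
  rw [← mul_assoc, E.sq, one_mul]

theorem inv_f (i : ι) : (E.f i)⁻¹ = E.f i := inv_eq_of_mul_eq_one_right (E.sq i)

theorem wlen_f (i : ι) : wlen E.f (E.f i) = 1 :=
  le_antisymm (wlen_apply_le _ i)
    (Nat.one_le_iff_ne_zero.2 fun h => E.ne_one i (eq_one_of_wlen_eq_zero E.gen h))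

theorem lt_of_le {i : ι} {w : W} (h : wlen E.f (E.f i * w) ≤ wlen E.f w) :
    wlen E.f (E.f i * w) + 1 = wlen E.f w := by
  obtain ⟨l, h1, h2⟩ := exists_reduced E.gen w
  subst h1
  obtain ⟨j, hj, he⟩ := E.exch i l h
  have h3 := le_wlen_mul_apply E.gen E.sq i (l.map E.f).prod
  have h4 := wlen_le_of_eq E.f he.symm
  rw [List.length_eraseIdx_of_lt hj] at h4
  omega

theorem gt_of_not_le {i : ι} {w : W} (h : ¬ wlen E.f (E.f i * w) ≤ wlen E.f w) :
    wlen E.f (E.f i * w) = wlen E.f w + 1 := by
  have := wlen_mul_apply_le E.gen i w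
  omega

theorem deletion (l : List ι) :
    ∃ l' : List ι, l'.Sublist l ∧ (l'.map E.f).prod = (l.map E.f).prod ∧
      l'.length = wlen E.f (l.map E.f).prod := by
  induction l with
  | nil => exact ⟨[], List.Sublist.refl _, rfl, by simp [wlen_one]⟩
  | cons i a ih =>
    obtain ⟨r, hr, hp, hlen⟩ := ih
    simp only [List.map_cons, List.prod_cons]
    by_cases h : wlen E.f (E.f i * (a.map E.f).prod) ≤ wlen E.f (a.map E.f).prod
    · have h' := E.lt_of_le h
      rw [← hp] at h
      obtain ⟨j, hj, he⟩ := E.exch i r h
      refine ⟨r.eraseIdx j, ((List.eraseIdx_sublist r j).trans hr).cons i, ?_, ?_⟩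
      · rw [← he, hp]
      · rw [List.length_eraseIdx_of_lt hj]
        omega
    · refine ⟨i :: r, hr.cons_cons i, by simp [hp], ?_⟩
      rw [E.gt_of_not_le h, List.length_cons, hlen]

theorem exists_reduced_mem {J : Set ι} {w : W} (h : InW E.f J w) :
    ∃ l : List ι, (∀ i ∈ l, i ∈ J) ∧ (l.map E.f).prod = w ∧ l.length = wlen E.f w := by
  obtain ⟨l, hl, rfl⟩ := h
  obtain ⟨r, hr, hp, hlen⟩ := E.deletion l
  exact ⟨r, fun i hi => hl i (hr.subset hi), hp, hlen⟩

theorem mem_of_inW {J : Set ι} {i : ι} (h : InW E.f J (E.f i)) : i ∈ J := by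
  obtain ⟨l, hl, hp, hlen⟩ := E.exists_reduced_mem h
  rw [E.wlen_f, List.length_eq_one_iff] at hlen
  obtain ⟨a, rfl⟩ := hlen
  have : a = i := E.inj (by simpa using hp)
  exact this ▸ hl a (List.mem_singleton.2 rfl)

/-- alternating word `i j i j …` of length `k` -/
def altList : ι → ι → ℕ → List ι
  | _, _, 0 => []
  | i, j, k + 1 => i :: altList j i k

theorem eq_altList {i j : ι} : ∀ (u : List ι), (∀ x ∈ u, x = i ∨ x = j) →
    u.length = wlen E.f (u.map E.f).prod → u.head? = some i → u = altList i j u.length := by
  intro u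
  induction u generalizing i j with
  | nil => intro _ _ h; simp at h
  | cons a r ih =>
    intro hmem hlen hhead
    obtain rfl : a = i := by simpa using hhead
    rcases r with _ | ⟨b, r'⟩
    · rfl
    have hr : (b :: r').length = wlen E.f ((b :: r').map E.f).prod := by
      have h1 := wlen_le E.f (b :: r')
      have h2 := wlen_mul_apply_le E.gen a ((b :: r').map E.f).prod
      rw [List.map_cons, List.prod_cons] at hlen
      simp only [List.length_cons] at hlen h1 ⊢
      omega
    have hba : b ≠ a := by
      rintro rfl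
      have h1 : ((b :: b :: r').map E.f).prod = (r'.map E.f).prod := by simp [E.mul_cancel]
      rw [h1] at hlen
      have := wlen_le E.f r'
      simp only [List.length_cons] at hlen
      omega
    have hb : b = j := (hmem b (by simp)).resolve_left hba
    subst hb
    have := ih (i := b) (j := a) (fun x hx => (hmem x (List.mem_cons_of_mem _ hx)).symm) hr rfl
    conv_lhs => rw [this]
    rfl

/-- For every `w` and pair `i, j`: decomposition `w = u v` with `u` in the dihedral group of `i, j`
and lengths adding. -/
theorem exists_minimal (i j : ι) (w : W) :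
    ∃ u v : W, InW E.f {i, j} u ∧ w = u * v ∧
      ∀ x : W, InW E.f {i, j} x → wlen E.f (x * v) = wlen E.f x + wlen E.f v := by
  classical
  have hex : ∃ n, ∃ u v : W, InW E.f {i, j} u ∧ w = u * v ∧ wlen E.f v = n :=
    ⟨_, 1, w, ⟨[], by simp, rfl⟩, (one_mul w).symm, rfl⟩
  obtain ⟨u, v, hu, hw, hv⟩ := Nat.find_spec hex
  refine ⟨u, v, hu, hw, fun x hx => ?_⟩
  obtain ⟨lx, hlx, rfl, hxlen⟩ := E.exists_reduced_mem hx
  obtain ⟨lv, hlv, hvlen⟩ := exists_reduced E.gen v
  subst hlv
  obtain ⟨z, hz, hzp, hzlen⟩ := E.deletion (lx ++ lv)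
  obtain ⟨z₁, z₂, rfl, hz₁, hz₂⟩ := List.sublist_append_iff.1 hz
  simp only [List.map_append, List.prod_append] at hzp hzlen
  have hmin : wlen E.f (lv.map E.f).prod ≤ wlen E.f (z₂.map E.f).prod := by
    rw [hv]
    refine Nat.find_min' hex ⟨u * ((lx.map E.f).prod)⁻¹ * (z₁.map E.f).prod, _, ?_, ?_, rfl⟩
    · obtain ⟨lu, hlu, rfl⟩ := hu
      refine ⟨lu ++ lx.reverse ++ z₁, ?_, ?_⟩
      · intro a ha
        simp only [List.mem_append, List.mem_reverse] at ha
        rcases ha with (ha | ha) | ha
        exacts [hlu a ha, hlx a ha, hlx a (hz₁.subset ha)]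
      · have : ∀ l : List ι, (l.map E.f).reverse.prod = ((l.map E.f).prod)⁻¹ := by
          intro l
          induction l with
          | nil => simp
          | cons a r ih => simp [ih, E.inv_f]
        simp [this, mul_assoc]
    · rw [hw, mul_assoc (u * _), hzp]
      group
  have h1 : z₂ = lv := hz₂.eq_of_length (le_antisymm hz₂.length_le
    (by rw [hvlen]; exact hmin.trans (wlen_le _ _)))
  subst h1
  have h2 : (z₁.map E.f).prod = (lx.map E.f).prod := mul_right_cancel hzp
  have h3 := wlen_le_of_eq E.f h2
  have h4 := hz₁.length_le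
  rw [List.length_append] at hzlen
  omega

/-- The Coxeter matrix of an exchange system. -/
noncomputable def coxMatrix : CoxeterMatrix ι where
  M := Matrix.of fun i j => orderOf (E.f i * E.f j)
  isSymm := by
    apply Matrix.IsSymm.ext
    intro i j
    simp only [Matrix.of_apply]
    have : E.f j * E.f i = (E.f i * E.f j)⁻¹ := by rw [mul_inv_rev, E.inv_f, E.inv_f]
    rw [this, orderOf_inv]
  diagonal i := by simp [E.sq]
  off_diagonal i j hij := by
    simp only [Matrix.of_apply, ne_eq, orderOf_eq_one_iff]
    intro h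
    exact hij (E.inj (by rw [mul_eq_one_iff_eq_inv.1 h, E.inv_f]))

theorem coxMatrix_apply (i j : ι) : E.coxMatrix i j = orderOf (E.f i * E.f j) := rfl

theorem altList_prod_div {G : Type*} [Group G] (g : ι → G) (hg : ∀ i, g i * g i = 1) :
    ∀ (k : ℕ) (i j : ι), ((altList i j k).map g).prod * ((altList j i k).map g).prod⁻¹ =
      (g i * g j) ^ k := by
  intro k
  induction k with
  | zero => intro i j; simp [altList]
  | succ k ih =>
    intro i j
    have hj : (g j)⁻¹ = g j := inv_eq_of_mul_eq_one_right (hg j)
    simp only [altList, List.map_cons, List.prod_cons, mul_inv_rev, hj]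
    calc g i * ((altList j i k).map g).prod * (((altList i j k).map g).prod⁻¹ * g j)
        = g i * (((altList j i k).map g).prod * ((altList i j k).map g).prod⁻¹) * g j := by group
      _ = g i * (g j * g i) ^ k * g j := by rw [ih j i]
      _ = (g i * g j) ^ (k + 1) := by
        rw [pow_succ, ← mul_assoc]
        have : g i * (g j * g i) ^ k = (g i * g j) ^ k * g i := by
          clear ih
          induction k with
          | zero => simp
          | succ k ih => rw [pow_succ, ← mul_assoc, ih, pow_succ]; simp [mul_assoc]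
        rw [this]

theorem word_eq_of_reduced : ∀ (k : ℕ) (l l' : List ι), l.length = k → l'.length = k →
    (l.map E.f).prod = (l'.map E.f).prod → wlen E.f (l.map E.f).prod = k →
    (l.map E.coxMatrix.simple).prod = (l'.map E.coxMatrix.simple).prod := by
  intro k
  induction k with
  | zero =>
    intro l l' h h' _ _
    rw [List.length_eq_zero_iff.1 h, List.length_eq_zero_iff.1 h']
  | succ k ih =>
    intro l l' h h' he hlen
    have tail : ∀ (i : ι) (a : List ι), a.length = k →
        ((i :: a).map E.f).prod = (l.map E.f).prod → wlen E.f (a.map E.f).prod = k := by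
      intro i a ha hp
      have h1 := wlen_le E.f a
      have h2 := wlen_mul_apply_le E.gen i (a.map E.f).prod
      simp only [List.map_cons, List.prod_cons] at hp
      rw [hp, hlen] at h2
      omega
    have same : ∀ (i : ι) (a c : List ι), a.length = k → c.length = k →
        ((i :: a).map E.f).prod = (l.map E.f).prod → ((i :: c).map E.f).prod = (l.map E.f).prod →
        ((i :: a).map E.coxMatrix.simple).prod = ((i :: c).map E.coxMatrix.simple).prod := by
      intro i a c ha hc hpa hpc
      have hac := hpa.trans hpc.symm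
      simp only [List.map_cons, List.prod_cons, mul_left_cancel_iff] at hac ⊢
      exact ih a c ha hc hac (tail i a ha hpa)
    obtain ⟨i, a, rfl⟩ := List.exists_cons_of_length_eq_add_one h
    obtain ⟨j, c, rfl⟩ := List.exists_cons_of_length_eq_add_one h'
    have ha : a.length = k := by simpa using h
    have hc : c.length = k := by simpa using h'
    by_cases hij : i = j
    · subst hij
      exact same i a c ha hc rfl he.symm
    obtain ⟨u, v, hu, hw, hadd⟩ := E.exists_minimal i j ((i :: a).map E.f).prod
    obtain ⟨lv, hlv, hvlen⟩ := exists_reduced E.gen v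
    -- a descent `p ∈ {i, j}` of `w` gives a reduced alternating word for `u` starting with `p`
    have key : ∀ p q : ι, ({p, q} : Set ι) = {i, j} →
        wlen E.f (E.f p * ((i :: a).map E.f).prod) < k + 1 →
        ((altList p q (wlen E.f u)).map E.f).prod = u ∧ 1 ≤ wlen E.f u := by
      intro p q hpq hlt
      have hp : InW E.f {i, j} (E.f p * u) := by
        obtain ⟨lu, hlu, rfl⟩ := hu
        refine ⟨p :: lu, ?_, by simp⟩
        intro x hx
        rcases List.mem_cons.1 hx with rfl | hx
        · rw [← hpq]; exact Set.mem_insert _ _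
        · exact hlu x hx
      have h1 := hadd _ hp
      have h2 := hadd _ hu
      rw [mul_assoc, ← hw] at h1
      rw [← hw, hlen] at h2
      have h3 := le_wlen_mul_apply E.gen E.sq p u
      obtain ⟨r, hr, hrp, hrlen⟩ := E.exists_reduced_mem hp
      have h4 : ((p :: r).map E.f).prod = u := by simp [hrp, E.mul_cancel]
      have h5 : (p :: r).length = wlen E.f u := by simp only [List.length_cons]; omega
      have h6 := E.eq_altList (i := p) (j := q) (p :: r) (fun x hx => by
        have hx' : x ∈ ({p, q} : Set ι) := by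
          rw [hpq]
          rcases List.mem_cons.1 hx with rfl | hx
          · rw [← hpq]; exact Set.mem_insert _ _
          · exact hr x hx
        simpa using hx') (by rw [h4, h5]) rfl
      exact ⟨by rw [← h5, ← h6, h4], by rw [← h5]; simp⟩
    obtain ⟨hA, hK⟩ := key i j rfl (by
      simp only [List.map_cons, List.prod_cons, E.mul_cancel]
      exact Nat.lt_succ_of_le (ha ▸ wlen_le E.f a))
    obtain ⟨hB, -⟩ := key j i (Set.pair_comm j i) (by
      rw [he]
      simp only [List.map_cons, List.prod_cons, E.mul_cancel]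
      exact Nat.lt_succ_of_le (hc ▸ wlen_le E.f c))
    have hsum : wlen E.f u + lv.length = k + 1 := by
      have := hadd u hu
      rw [← hw, hlen] at this
      omega
    have hsimple : ∀ x, E.coxMatrix.simple x * E.coxMatrix.simple x = 1 := by
      intro x
      rw [← CoxeterMatrix.toCoxeterSystem_simple]
      exact E.coxMatrix.toCoxeterSystem.simple_mul_simple_self x
    have halt : ∀ n : ℕ, ((altList i j n).map E.f).prod = ((altList j i n).map E.f).prod →
        ((altList i j n).map E.coxMatrix.simple).prod =
          ((altList j i n).map E.coxMatrix.simple).prod := by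
      intro n hn
      have hdiv := altList_prod_div E.f E.sq n i j
      rw [hn, mul_inv_cancel] at hdiv
      obtain ⟨c', hc'⟩ := orderOf_dvd_of_pow_eq_one hdiv.symm
      have hrel : (E.coxMatrix.simple i * E.coxMatrix.simple j) ^ orderOf (E.f i * E.f j) = 1 := by
        rw [← coxMatrix_apply, ← CoxeterMatrix.toCoxeterSystem_simple]
        exact E.coxMatrix.toCoxeterSystem.simple_mul_simple_pow i j
      have h2 := altList_prod_div E.coxMatrix.simple hsimple n i j
      have h3 : (E.coxMatrix.simple i * E.coxMatrix.simple j) ^ n = 1 := by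
        rw [hc', pow_mul, hrel, one_pow]
      rw [h3] at h2
      exact eq_of_mul_inv_eq_one h2
    obtain ⟨n, hn⟩ := Nat.exists_eq_add_of_le hK
    rw [Nat.add_comm] at hn
    rw [hn] at hA hB hsum
    have hlenalt : ∀ (n : ℕ) (p q : ι), (altList p q n).length = n := by
      intro n
      induction n with
      | zero => intros; rfl
      | succ n ihn => intros; simp [altList, ihn]
    have e1 : ((i :: a).map E.coxMatrix.simple).prod =
        ((altList i j (n + 1) ++ lv).map E.coxMatrix.simple).prod :=
      same i a (altList j i n ++ lv) ha (by rw [List.length_append, hlenalt]; omega) rfl (by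
        rw [hw, ← hlv, ← hA]
        simp [altList, mul_assoc])
    have e2 : ((j :: c).map E.coxMatrix.simple).prod =
        ((altList j i (n + 1) ++ lv).map E.coxMatrix.simple).prod :=
      same j c (altList i j n ++ lv) hc (by rw [List.length_append, hlenalt]; omega) he.symm (by
        rw [hw, ← hlv, ← hB]
        simp [altList, mul_assoc])
    rw [e1, e2, List.map_append, List.map_append, List.prod_append, List.prod_append,
      halt _ (hA.trans hB.symm)]

theorem word_eq_reduced (l : List ι) : ∀ r : List ι, (r.map E.f).prod = (l.map E.f).prod →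
    r.length = wlen E.f (l.map E.f).prod →
    (l.map E.coxMatrix.simple).prod = (r.map E.coxMatrix.simple).prod := by
  induction l with
  | nil =>
    intro r h1 h2
    rw [List.map_nil, List.prod_nil, wlen_one, List.length_eq_zero_iff] at h2
    rw [h2]
  | cons i a ih =>
    intro r hr hrlen
    obtain ⟨ra, hra, hralen⟩ := exists_reduced E.gen (a.map E.f).prod
    rw [List.map_cons, List.prod_cons, ih ra hra hralen]
    by_cases h : wlen E.f (E.f i * (a.map E.f).prod) ≤ wlen E.f (a.map E.f).prod
    · have h' := E.lt_of_le h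
      simp only [List.map_cons, List.prod_cons] at hr hrlen
      have hcons : ((i :: r).map E.f).prod = (a.map E.f).prod := by simp [hr, E.mul_cancel]
      have := E.word_eq_of_reduced ra.length ra (i :: r) rfl
        (by simp only [List.length_cons]; omega) (hra.trans hcons.symm) (by rw [hra]; omega)
      rw [this, List.map_cons, List.prod_cons, ← mul_assoc, ← CoxeterMatrix.toCoxeterSystem_simple,
        E.coxMatrix.toCoxeterSystem.simple_mul_simple_self, one_mul]
    · have h' := E.gt_of_not_le h
      simp only [List.map_cons, List.prod_cons] at hr hrlen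
      have := E.word_eq_of_reduced r.length (i :: ra) r
        (by simp only [List.length_cons]; omega) rfl (by simp [hr, hra])
        (by simp only [List.map_cons, List.prod_cons, hra]; omega)
      rw [← this, List.map_cons, List.prod_cons]

/-- **Matsumoto**: an exchange system is a Coxeter system. -/
theorem exists_coxeterSystem :
    ∃ (M : CoxeterMatrix ι) (cs : CoxeterSystem M W), ∀ i, cs.simple i = E.f i := by
  have hlift : E.coxMatrix.IsLiftable E.f := fun i j => pow_orderOf_eq_one _
  set C := E.coxMatrix.toCoxeterSystem with hC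
  set ψ : E.coxMatrix.Group →* W := C.lift ⟨E.f, hlift⟩ with hψdef
  have hψ : ∀ l : List ι, ψ (C.wordProd l) = (l.map E.f).prod := by
    intro l
    induction l with
    | nil => simp
    | cons a r ih => rw [C.wordProd_cons, map_mul, ih, hψdef, C.lift_apply_simple hlift]; simp
  have hinj : Function.Injective ψ := by
    intro x y hxy
    obtain ⟨lx, rfl⟩ := C.wordProd_surjective x
    obtain ⟨ly, rfl⟩ := C.wordProd_surjective y
    rw [hψ, hψ] at hxy
    obtain ⟨r, hr, hrlen⟩ := exists_reduced E.gen (lx.map E.f).prod
    have h1 := E.word_eq_reduced lx r hr hrlen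
    have h2 := E.word_eq_reduced ly r (hr.trans hxy) (hrlen.trans (by rw [hxy]))
    simpa [CoxeterSystem.wordProd, hC, CoxeterMatrix.toCoxeterSystem_simple] using h1.trans h2.symm
  have hsurj : Function.Surjective ψ := by
    intro w
    obtain ⟨l, rfl⟩ := E.gen w
    exact ⟨_, hψ l⟩
  refine ⟨E.coxMatrix, ⟨(MulEquiv.ofBijective ψ ⟨hinj, hsurj⟩).symm⟩, fun i => ?_⟩
  have h3 := C.lift_apply_simple hlift i
  exact h3

end ExchSys

end CfsgLib.BN
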