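import Mathlib
import Cfsg.Prelude.Def_LieExceptional
import Cfsg.Agent.Lib.BN.Exchange

/-!
Tits systems: Bruhat decomposition, lengths, exchange condition, parabolic subgroups, simplicity.
-/

set_option autoImplicit false

namespace CfsgLib.BN

variable {G : Type*} [Group G] (P : Cfsg.BNPair G)

/-- `H = B ⊓ N` as a subgroup of `N`. -/
abbrev torus : Subgroup P.N := (P.B ⊓ P.N).subgroupOf P.N

theorem mem_torus {n : P.N} : n ∈ torus P ↔ (n : G) ∈ P.B := by
  simp [torus, Subgroup.mem_subgroupOf]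

instance torusNormal : (torus P).Normal :=
  ⟨fun t ht n => (mem_torus P).2 (by
    simpa using P.conj_mem n n.2 t ⟨(mem_torus P).1 ht, t.2⟩)⟩

/-- The Weyl group `N / (B ⊓ N)`. -/
abbrev Weyl : Type _ := ↥P.N ⧸ torus P

/-- The class in the Weyl group of an element of `N`. -/
def wk (n : G) (hn : n ∈ P.N) : Weyl P := QuotientGroup.mk (⟨n, hn⟩ : P.N)

theorem wk_eq_iff {n m : G} (hn : n ∈ P.N) (hm : m ∈ P.N) :
    wk P n hn = wk P m hm ↔ n⁻¹ * m ∈ P.B := by
  rw [wk, wk, QuotientGroup.eq, mem_torus]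
  simp

theorem wk_eq_one_iff {n : G} (hn : n ∈ P.N) : wk P n hn = 1 ↔ n ∈ P.B := by
  rw [wk, QuotientGroup.eq_one_iff, mem_torus]

theorem wk_mul {n m : G} (hn : n ∈ P.N) (hm : m ∈ P.N) :
    wk P (n * m) (mul_mem hn hm) = wk P n hn * wk P m hm := rfl

theorem wk_one : wk P 1 (one_mem _) = 1 := rfl

/-- The image in the Weyl group of a distinguished generator. -/
def sgen (s : P.S) : Weyl P := wk P s (P.subset s.2)

theorem exists_rep (w : Weyl P) : ∃ n : G, ∃ hn : n ∈ P.N, wk P n hn = w := by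
  obtain ⟨⟨n, hn⟩, rfl⟩ := QuotientGroup.mk_surjective w
  exact ⟨n, hn, rfl⟩

theorem S_not_mem_B {s : G} (hs : s ∈ P.S) : s ∉ P.B := by
  intro h
  apply P.conj_ne s hs
  ext x
  constructor
  · rintro ⟨b, hb, rfl⟩
    exact mul_mem (mul_mem h hb) h
  · intro hx
    exact ⟨s⁻¹ * x * s⁻¹, mul_mem (mul_mem (inv_mem h) hx) (inv_mem h), by group⟩

theorem sgen_sq (s : P.S) : sgen P s * sgen P s = 1 := by
  rw [sgen, ← wk_mul, wk_eq_one_iff]
  exact P.sq_mem _ s.2

theorem sgen_inv (s : P.S) : (sgen P s)⁻¹ = sgen P s := inv_eq_of_mul_eq_one_right (sgen_sq P s)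

theorem sgen_inj : Function.Injective (sgen P) := fun s t h =>
  Subtype.ext (P.inj s s.2 t t.2 ((wk_eq_iff P _ _).1 h))

theorem sgen_ne_one (s : P.S) : sgen P s ≠ 1 := fun h =>
  S_not_mem_B P s.2 ((wk_eq_one_iff P _).1 h)

theorem inW_mono_univ {J : Set P.S} {w : Weyl P} (h : InW (sgen P) J w) :
    InW (sgen P) Set.univ w := by
  obtain ⟨l, -, hl⟩ := h
  exact ⟨l, fun _ _ => trivial, hl⟩

theorem inW_of_mem_closure_sup {J : Set G} (hJ : J ⊆ P.S) {n : G}
    (hn : n ∈ Subgroup.closure J ⊔ (P.B ⊓ P.N)) :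
    ∃ hN : n ∈ P.N, InW (sgen P) {i | (i : G) ∈ J} (wk P n hN) := by
  rw [← Subgroup.closure_eq (P.B ⊓ P.N), ← Subgroup.closure_union] at hn
  induction hn using Subgroup.closure_induction with
  | mem x hx =>
    rcases hx with hx | hx
    · exact ⟨P.subset (hJ hx), [⟨x, hJ hx⟩], by simp [hx], by simp [sgen]⟩
    · exact ⟨hx.2, [], by simp, ((wk_eq_one_iff P _).2 hx.1).symm⟩
  | one => exact ⟨one_mem _, [], by simp, rfl⟩
  | mul x y _ _ ihx ihy =>
    obtain ⟨hx, l, hl, hxl⟩ := ihx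
    obtain ⟨hy, r, hr, hyr⟩ := ihy
    exact ⟨mul_mem hx hy, l ++ r, by simpa [or_imp, forall_and] using And.intro hl hr,
      by rw [List.map_append, List.prod_append, hxl, hyr, ← wk_mul]⟩
  | inv x _ ihx =>
    obtain ⟨hx, l, hl, hxl⟩ := ihx
    refine ⟨inv_mem hx, l.reverse, by simpa using hl, ?_⟩
    have : wk P x⁻¹ (inv_mem hx) = (wk P x hx)⁻¹ := rfl
    rw [this, ← hxl]
    clear hxl hl this
    induction l with
    | nil => simp
    | cons a r ih => simpa [sgen_inv] using ih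

theorem sgen_gen (w : Weyl P) : ∃ l : List P.S, (l.map (sgen P)).prod = w := by
  obtain ⟨n, hn, rfl⟩ := exists_rep P w
  obtain ⟨_, l, -, hl⟩ := inW_of_mem_closure_sup P (subset_refl P.S) (n := n) (by rwa [P.closure_sup])
  exact ⟨l, hl⟩

theorem sgen_word_mem_closure {J : Set G} {l : List P.S} (hl : ∀ i ∈ l, (i : G) ∈ J) :
    ∃ n : G, ∃ hn : n ∈ P.N, n ∈ Subgroup.closure J ∧ wk P n hn = (l.map (sgen P)).prod := by
  induction l with
  | nil => exact ⟨1, one_mem _, one_mem _, rfl⟩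
  | cons a r ih =>
    obtain ⟨n, hn, hc, he⟩ := ih fun i hi => hl i (List.mem_cons_of_mem _ hi)
    refine ⟨(a : G) * n, mul_mem (P.subset a.2) hn,
      mul_mem (Subgroup.subset_closure (hl a (by simp))) hc, ?_⟩
    rw [List.map_cons, List.prod_cons, wk_mul P (P.subset a.2) hn, he]
    rfl

/-- The Bruhat cell of an element of the Weyl group. -/
noncomputable def cell (w : Weyl P) : Set G :=
  DoubleCoset.doubleCoset ((Quotient.out w : P.N) : G) (P.B : Set G) P.B

theorem dc_mul {n b b' : G} (hb : b ∈ P.B) (hb' : b' ∈ P.B) :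
    DoubleCoset.doubleCoset (b * n * b') (P.B : Set G) P.B =
      DoubleCoset.doubleCoset n (P.B : Set G) P.B :=
  DoubleCoset.doubleCoset_eq_of_mem (DoubleCoset.mem_doubleCoset.2 ⟨b, hb, b', hb', rfl⟩)

theorem cell_wk {n : G} (hn : n ∈ P.N) :
    cell P (wk P n hn) = DoubleCoset.doubleCoset n (P.B : Set G) P.B := by
  obtain ⟨⟨h, hh⟩, hout⟩ := QuotientGroup.mk_out_eq_mul (torus P) (⟨n, hn⟩ : P.N)
  have h1 : ((Quotient.out (wk P n hn) : P.N) : G) = 1 * n * (h : G) := by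
    rw [one_mul]
    exact congrArg Subtype.val hout
  rw [cell, h1, dc_mul P (one_mem _) ((mem_torus P).1 hh)]

theorem mem_cell_wk {n g : G} (hn : n ∈ P.N) :
    g ∈ cell P (wk P n hn) ↔ ∃ b ∈ P.B, ∃ b' ∈ P.B, g = b * n * b' := by
  rw [cell_wk, DoubleCoset.mem_doubleCoset]
  simp only [SetLike.mem_coe]

theorem self_mem_cell {n : G} (hn : n ∈ P.N) : n ∈ cell P (wk P n hn) :=
  (mem_cell_wk P hn).2 ⟨1, one_mem _, 1, one_mem _, by group⟩

theorem mem_cell_one {g : G} : g ∈ cell P 1 ↔ g ∈ P.B := by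
  rw [← wk_one, mem_cell_wk]
  constructor
  · rintro ⟨b, hb, b', hb', rfl⟩
    exact mul_mem (mul_mem hb (one_mem _)) hb'
  · intro h
    exact ⟨g, h, 1, one_mem _, by group⟩

theorem cell_left {w : Weyl P} {g b : G} (hb : b ∈ P.B) (hg : g ∈ cell P w) :
    b * g ∈ cell P w := by
  obtain ⟨n, hn, rfl⟩ := exists_rep P w
  obtain ⟨c, hc, c', hc', rfl⟩ := (mem_cell_wk P hn).1 hg
  exact (mem_cell_wk P hn).2 ⟨b * c, mul_mem hb hc, c', hc', by group⟩

theorem cell_right {w : Weyl P} {g b : G} (hg : g ∈ cell P w) (hb : b ∈ P.B) :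
    g * b ∈ cell P w := by
  obtain ⟨n, hn, rfl⟩ := exists_rep P w
  obtain ⟨c, hc, c', hc', rfl⟩ := (mem_cell_wk P hn).1 hg
  exact (mem_cell_wk P hn).2 ⟨c, hc, c' * b, mul_mem hc' hb, by group⟩

theorem cell_inv {w : Weyl P} {g : G} (hg : g ∈ cell P w) : g⁻¹ ∈ cell P w⁻¹ := by
  obtain ⟨n, hn, rfl⟩ := exists_rep P w
  obtain ⟨c, hc, c', hc', rfl⟩ := (mem_cell_wk P hn).1 hg
  exact (mem_cell_wk P (inv_mem hn)).2 ⟨c'⁻¹, inv_mem hc', c⁻¹, inv_mem hc, by group⟩

theorem sgen_mem_cell (s : P.S) : (s : G) ∈ cell P (sgen P s) := self_mem_cell P _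

theorem mul_cell (s : P.S) {w : Weyl P} {g : G} (hg : g ∈ cell P w) :
    (s : G) * g ∈ cell P (sgen P s * w) ∨ (s : G) * g ∈ cell P w := by
  obtain ⟨n, hn, rfl⟩ := exists_rep P w
  obtain ⟨c, hc, c', hc', rfl⟩ := (mem_cell_wk P hn).1 hg
  have e : (s : G) * (c * n * c') = (s : G) * c * n * c' := by group
  rw [e]
  rcases P.mul_mem_union s s.2 n hn c hc with h | h
  · left
    apply cell_right P _ hc'
    rw [sgen, ← wk_mul, cell_wk]
    exact h
  · right
    apply cell_right P _ hc'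
    rw [cell_wk]
    exact h

theorem inv_mul_cell (s : P.S) {w : Weyl P} {g : G} (hg : g ∈ cell P w) :
    (s : G)⁻¹ * g ∈ cell P (sgen P s * w) ∨ (s : G)⁻¹ * g ∈ cell P w := by
  have h := mul_cell P s (cell_left P (inv_mem (P.sq_mem _ s.2)) hg)
  have e : (s : G) * (((s : G) * s)⁻¹ * g) = (s : G)⁻¹ * g := by group
  rwa [e] at h

theorem cell_mul (s : P.S) {w : Weyl P} {g : G} (hg : g ∈ cell P w) :
    g * (s : G) ∈ cell P (w * sgen P s) ∨ g * (s : G) ∈ cell P w := by
  have h := inv_mul_cell P s (cell_inv P hg)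
  rcases h with h | h
  · left
    simpa [sgen_inv] using cell_inv P h
  · right
    simpa using cell_inv P h

theorem cell_mul_inv (s : P.S) {w : Weyl P} {g : G} (hg : g ∈ cell P w) :
    g * (s : G)⁻¹ ∈ cell P (w * sgen P s) ∨ g * (s : G)⁻¹ ∈ cell P w := by
  have e : g * (s : G) * ((s : G) * s)⁻¹ = g * (s : G)⁻¹ := by group
  rcases cell_mul P s hg with h | h
  · exact Or.inl (e ▸ cell_right P h (inv_mem (P.sq_mem _ s.2)))
  · exact Or.inr (e ▸ cell_right P h (inv_mem (P.sq_mem _ s.2)))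

theorem cell_eq_of_mem {v w : Weyl P} {g : G} (hv : g ∈ cell P v) (hw : g ∈ cell P w) :
    cell P v = cell P w :=
  (DoubleCoset.doubleCoset_eq_of_mem hv).symm.trans (DoubleCoset.doubleCoset_eq_of_mem hw)

local notation "ℓ" => wlen (sgen P)

theorem cell_injective_aux : ∀ (k : ℕ) (v w : Weyl P), ℓ v = k → ℓ v ≤ ℓ w →
    cell P v = cell P w → v = w := by
  intro k
  induction k using Nat.strong_induction_on with
  | _ k ih =>
    intro v w hk hle he
    by_cases hv : v = 1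
    · subst hv
      obtain ⟨n, hn, rfl⟩ := exists_rep P w
      have h : n ∈ cell P 1 := he ▸ self_mem_cell P hn
      exact ((wk_eq_one_iff P hn).2 ((mem_cell_one P).1 h)).symm
    obtain ⟨s, v', hvv, hlt⟩ := exists_first (sgen_gen P) hv
    subst hvv
    obtain ⟨m, hm, rfl⟩ := exists_rep P v'
    have h1 : (s : G) * m ∈ cell P w := by
      rw [← he, sgen, ← wk_mul]
      exact self_mem_cell P _
    have h3 := le_wlen_mul_apply (sgen_gen P) (sgen_sq P) s w
    have h4 := wlen_mul_apply_le (sgen_gen P) s (wk P m hm)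
    rcases inv_mul_cell P s h1 with h | h <;> rw [inv_mul_cancel_left] at h
    · have hm' := ih _ (hk ▸ hlt) (wk P m hm) (sgen P s * w) rfl (by omega)
        (cell_eq_of_mem P (self_mem_cell P hm) h)
      rw [hm', ← mul_assoc, sgen_sq, one_mul]
    · have hm' := ih _ (hk ▸ hlt) (wk P m hm) w rfl (by omega)
        (cell_eq_of_mem P (self_mem_cell P hm) h)
      rw [hm'] at hlt hle
      omega

/-- Uniqueness in the Bruhat decomposition. -/
theorem cell_injective {v w : Weyl P} (h : cell P v = cell P w) : v = w := by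
  rcases le_total (ℓ v) (ℓ w) with hle | hle
  · exact cell_injective_aux P _ v w rfl hle h
  · exact (cell_injective_aux P _ w v rfl hle h.symm).symm

theorem eq_of_mem_cell {v w : Weyl P} {g : G} (hv : g ∈ cell P v) (hw : g ∈ cell P w) : v = w :=
  cell_injective P (cell_eq_of_mem P hv hw)

/-- If `ℓ (s w) ≥ ℓ w` then `s · BwB ⊆ BswB`. -/
theorem mul_cell_of_le : ∀ (k : ℕ) (w : Weyl P) (s : P.S) (g : G), ℓ w = k →
    ℓ w ≤ ℓ (sgen P s * w) → g ∈ cell P w → (s : G) * g ∈ cell P (sgen P s * w) := by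
  intro k
  induction k using Nat.strong_induction_on with
  | _ k ih =>
    intro w s g hk hle hg
    by_cases hw : w = 1
    · subst hw
      rw [mul_one]
      exact cell_right P (sgen_mem_cell P s) ((mem_cell_one P).1 hg)
    obtain ⟨t, v, hwv, hlt⟩ := exists_last (sgen_gen P) hw
    subst hwv
    obtain ⟨m, hm, rfl⟩ := exists_rep P v
    rw [sgen, ← wk_mul, mem_cell_wk] at hg
    obtain ⟨b, hb, b', hb', rfl⟩ := hg
    have hx : b * m ∈ cell P (wk P m hm) := cell_left P hb (self_mem_cell P hm)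
    have h1 : ℓ (sgen P s * (wk P m hm * sgen P t)) ≤ ℓ (sgen P s * wk P m hm) + 1 := by
      obtain ⟨l, hl, hlen⟩ := exists_reduced (sgen_gen P) (sgen P s * wk P m hm)
      rw [← mul_assoc, ← hlen, ← hl]
      exact (wlen_le_of_eq _ (l := l ++ [t]) (by simp)).trans (by simp)
    have h2 := ih _ (hk ▸ hlt) (wk P m hm) s (b * m) rfl (by omega) hx
    have h3 := cell_mul P t h2
    have e : (s : G) * (b * (m * t) * b') = (s : G) * (b * m) * t * b' := by group
    rw [e]
    rcases h3 with h3 | h3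
    · rw [mul_assoc (sgen P s)] at h3
      exact cell_right P h3 hb'
    · have hg' : b * m * t * b' ∈ cell P (wk P m hm * sgen P t) := by
        rw [sgen, ← wk_mul]
        exact cell_right P ((mem_cell_wk P _).2 ⟨b, hb, 1, one_mem _, by group⟩) hb'
      rcases mul_cell P s hg' with h4 | h4
      · rwa [show (s : G) * (b * m * t * b') = (s : G) * (b * m) * t * b' by group] at h4
      · rw [show (s : G) * (b * m * t * b') = (s : G) * (b * m) * t * b' by group] at h4
        have h5 := eq_of_mem_cell P h4 (cell_right P h3 hb')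
        have h6 : sgen P s * (wk P m hm * sgen P t) = wk P m hm := by
          rw [h5, ← mul_assoc, sgen_sq, one_mul]
        rw [h6] at hle
        omega

theorem mul_cell_of_le' {w : Weyl P} {s : P.S} {g : G} (hle : ℓ w ≤ ℓ (sgen P s * w))
    (hg : g ∈ cell P w) : (s : G) * g ∈ cell P (sgen P s * w) :=
  mul_cell_of_le P _ w s g rfl hle hg

theorem exists_conj_mem_cell (s : P.S) :
    ∃ b ∈ P.B, (s : G) * b * s ∈ cell P (sgen P s) := by
  by_contra hcon
  push Not at hcon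
  have hB : ∀ b ∈ P.B, (s : G) * b * s ∈ P.B := by
    intro b hb
    rcases mul_cell P s (cell_left P hb (sgen_mem_cell P s)) with h | h
    · rw [sgen_sq, mem_cell_one, ← mul_assoc] at h
      exact h
    · exact absurd (by rwa [← mul_assoc] at h) (hcon b hb)
  apply P.conj_ne s s.2
  refine Set.Subset.antisymm (by rintro _ ⟨b, hb, rfl⟩; exact hB b hb) fun x hx => ?_
  have hh := P.sq_mem _ s.2
  refine ⟨((s : G) * s)⁻¹ * ((s : G) * x * s) * ((s : G) * s)⁻¹,
    mul_mem (mul_mem (inv_mem hh) (hB x hx)) (inv_mem hh), ?_⟩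
  group

/-- If `ℓ (s w) ≤ ℓ w` then `s · BwB` meets `BwB`. -/
theorem exists_mul_cell {w : Weyl P} {s : P.S} (h : ℓ (sgen P s * w) ≤ ℓ w) :
    ∃ g ∈ cell P w, (s : G) * g ∈ cell P w := by
  obtain ⟨m, hm, hmw⟩ := exists_rep P (sgen P s * w)
  obtain ⟨b, hb, hsb⟩ := exists_conj_mem_cell P s
  have hw : sgen P s * wk P m hm = w := by rw [hmw, ← mul_assoc, sgen_sq, one_mul]
  obtain ⟨c, hc, c', hc', hcc⟩ := (mem_cell_wk P _).1 hsb
  refine ⟨b * ((s : G) * m), cell_left P hb ?_, ?_⟩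
  · rw [← hw, sgen, ← wk_mul]
    exact self_mem_cell P _
  · have e : (s : G) * (b * ((s : G) * m)) = c * ((s : G) * (c' * m)) := by
      calc (s : G) * (b * ((s : G) * m)) = ((s : G) * b * s) * m := by group
        _ = _ := by rw [hcc]; group
    rw [e]
    apply cell_left P hc
    rw [← hw]
    exact mul_cell_of_le' P (by rw [hw, hmw]; exact h) (cell_left P hc' (self_mem_cell P hm))

theorem exchange (s : P.S) (l : List P.S) :
    ℓ (sgen P s * (l.map (sgen P)).prod) ≤ ℓ (l.map (sgen P)).prod →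
    ∃ j < l.length, sgen P s * (l.map (sgen P)).prod = ((l.eraseIdx j).map (sgen P)).prod := by
  induction l using List.reverseRecOn with
  | nil =>
    intro h
    rw [List.map_nil, List.prod_nil, mul_one, wlen_one, Nat.le_zero] at h
    exact absurd (eq_one_of_wlen_eq_zero (sgen_gen P) h) (sgen_ne_one P s)
  | append_singleton a t ih =>
    intro h
    simp only [List.map_append, List.prod_append, List.map_singleton, List.prod_singleton] at h ⊢
    by_cases hv : ℓ (sgen P s * (a.map (sgen P)).prod) ≤ ℓ (a.map (sgen P)).prod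
    · obtain ⟨j, hj, he⟩ := ih hv
      refine ⟨j, by simp; omega, ?_⟩
      rw [List.eraseIdx_append_of_lt_length hj, List.map_append, List.prod_append, ← he]
      simp [mul_assoc]
    · refine ⟨a.length, by simp, ?_⟩
      rw [List.eraseIdx_append_of_length_le le_rfl, Nat.sub_self]
      simp only [List.eraseIdx_cons_zero, List.append_nil]
      obtain ⟨m, hm, hmv⟩ := exists_rep P (a.map (sgen P)).prod
      rw [← hmv] at h hv ⊢
      obtain ⟨g, hg, hsg⟩ := exists_mul_cell P h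
      rw [sgen, ← wk_mul, mem_cell_wk] at hg
      obtain ⟨b, hb, b', hb', rfl⟩ := hg
      have h2 := mul_cell_of_le' P (s := s) (le_of_lt (not_le.1 hv))
        (cell_left P hb (self_mem_cell P hm))
      have e : (s : G) * (b * (m * t) * b') = (s : G) * (b * m) * t * b' := by group
      rw [e] at hsg
      rcases cell_mul P t h2 with h3 | h3
      · have h4 := eq_of_mem_cell P hsg (cell_right P h3 hb')
        rw [mul_assoc (sgen P s)] at h4
        exact absurd (by simpa using mul_right_cancel (h4.symm.trans (one_mul _).symm))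
          (sgen_ne_one P s)
      · rw [eq_of_mem_cell P hsg (cell_right P h3 hb'), ← mul_assoc, sgen_sq, one_mul]

/-- The exchange system of a Tits system. -/
noncomputable def sys : ExchSys (Weyl P) P.S where
  f := sgen P
  sq := sgen_sq P
  gen := sgen_gen P
  inj := sgen_inj P
  ne_one := sgen_ne_one P
  exch := exchange P

/-! ### Parabolic subgroups -/

theorem B_le_parabolic (J : Set G) : P.B ≤ P.parabolic J := le_sup_left

theorem subset_parabolic {J : Set G} {x : G} (h : x ∈ J) : x ∈ P.parabolic J :=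
  (le_sup_right : Subgroup.closure J ≤ P.parabolic J) (Subgroup.subset_closure h)

theorem wk_mem_iff {M : Subgroup G} (hM : P.B ≤ M) {n m : G} (hn : n ∈ P.N) (hm : m ∈ P.N)
    (h : wk P n hn = wk P m hm) : n ∈ M ↔ m ∈ M := by
  have := hM ((wk_eq_iff P hn hm).1 h)
  constructor
  · intro h'
    simpa using mul_mem h' this
  · intro h'
    simpa using mul_mem h' (inv_mem this)

theorem mem_parabolic {J : Set G} (hJ : J ⊆ P.S) {g : G} :
    g ∈ P.parabolic J ↔ ∃ w, InW (sgen P) {i | (i : G) ∈ J} w ∧ g ∈ cell P w := by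
  constructor
  · intro hg
    unfold Cfsg.BNPair.parabolic at hg
    rw [← Subgroup.closure_eq P.B, ← Subgroup.closure_union] at hg
    induction hg using Subgroup.closure_induction_left with
    | one => exact ⟨1, ⟨[], by simp, rfl⟩, (mem_cell_one P).2 (one_mem _)⟩
    | mul_left x hx y _ ih =>
      obtain ⟨w, hw, hy⟩ := ih
      rcases hx with hx | hx
      · exact ⟨w, hw, cell_left P hx hy⟩
      · rcases mul_cell P ⟨x, hJ hx⟩ hy with h | h
        · obtain ⟨l, hl, rfl⟩ := hw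
          exact ⟨_, ⟨⟨x, hJ hx⟩ :: l, List.forall_mem_cons.2 ⟨hx, hl⟩, by simp⟩, h⟩
        · exact ⟨w, hw, h⟩
    | inv_mul_cancel x hx y _ ih =>
      obtain ⟨w, hw, hy⟩ := ih
      rcases hx with hx | hx
      · exact ⟨w, hw, cell_left P (inv_mem hx) hy⟩
      · rcases inv_mul_cell P ⟨x, hJ hx⟩ hy with h | h
        · obtain ⟨l, hl, rfl⟩ := hw
          exact ⟨_, ⟨⟨x, hJ hx⟩ :: l, List.forall_mem_cons.2 ⟨hx, hl⟩, by simp⟩, h⟩
        · exact ⟨w, hw, h⟩
  · rintro ⟨w, ⟨l, hl, rfl⟩, hg⟩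
    obtain ⟨n, hn, hc, he⟩ := sgen_word_mem_closure P hl
    rw [← he, mem_cell_wk] at hg
    obtain ⟨b, hb, b', hb', rfl⟩ := hg
    exact mul_mem (mul_mem (B_le_parabolic P J hb)
      ((le_sup_right : Subgroup.closure J ≤ P.parabolic J) hc)) (B_le_parabolic P J hb')

theorem parabolic_S : P.parabolic P.S = ⊤ := by
  apply top_le_iff.1
  rw [← P.sup_eq_top, ← P.closure_sup]
  exact sup_le (B_le_parabolic P _) (sup_le le_sup_right (inf_le_left.trans (B_le_parabolic P _)))

/-- Bruhat decomposition. -/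
theorem exists_cell (g : G) : ∃ w, g ∈ cell P w := by
  obtain ⟨w, -, h⟩ := (mem_parabolic P (subset_refl P.S) (g := g)).1 (by simp [parabolic_S])
  exact ⟨w, h⟩

theorem mem_parabolic_S {J : Set G} (hJ : J ⊆ P.S) {s : G} (hs : s ∈ P.S)
    (h : s ∈ P.parabolic J) : s ∈ J := by
  obtain ⟨w, hw, hg⟩ := (mem_parabolic P hJ).1 h
  have := eq_of_mem_cell P (sgen_mem_cell P ⟨s, hs⟩) hg
  subst this
  exact (sys P).mem_of_inW hw

theorem inW_of_mem_parabolic {J : Set G} (hJ : J ⊆ P.S) {n : G} (hn : n ∈ P.N)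
    (h : n ∈ P.parabolic J) : InW (sgen P) {i | (i : G) ∈ J} (wk P n hn) := by
  obtain ⟨w, hw, hg⟩ := (mem_parabolic P hJ).1 h
  exact eq_of_mem_cell P (self_mem_cell P hn) hg ▸ hw

theorem conj_le {M : Subgroup G} (hM : P.B ≤ M) {n : G} (hn : n ∈ P.N)
    (hconj : ∀ b ∈ P.B, n * b * n⁻¹ ∈ M) :
    InW (sgen P) {i | (i : G) ∈ M} (wk P n hn) := by
  generalize hk : ℓ (wk P n hn) = k
  induction k using Nat.strong_induction_on generalizing n with
  | _ k ih =>
    by_cases h1 : wk P n hn = 1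
    · exact ⟨[], by simp, by simp [h1]⟩
    obtain ⟨s, v, hv, hlt⟩ := exists_first (sgen_gen P) h1
    have hsv : sgen P s * wk P n hn = v := by rw [hv, ← mul_assoc, sgen_sq, one_mul]
    obtain ⟨g, hg, hsg⟩ := exists_mul_cell P (w := wk P n hn) (s := s) (by rw [hsv]; omega)
    obtain ⟨a, ha, a', ha', rfl⟩ := (mem_cell_wk P hn).1 hg
    obtain ⟨c, hc, c', hc', hcc⟩ := (mem_cell_wk P hn).1 hsg
    have hs : (s : G) ∈ M := by
      have : (s : G) = c * (n * (c' * a'⁻¹) * n⁻¹) * a⁻¹ :=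
        calc (s : G) = ((s : G) * (a * n * a')) * (a * n * a')⁻¹ := by group
          _ = _ := by rw [hcc]; group
      rw [this]
      exact mul_mem (mul_mem (hM hc) (hconj _ (mul_mem hc' (inv_mem ha')))) (inv_mem (hM ha))
    have hm : (s : G)⁻¹ * n ∈ P.N := mul_mem (inv_mem (P.subset s.2)) hn
    have hwm : wk P ((s : G)⁻¹ * n) hm = v := by
      rw [← hsv, ← sgen_inv]
      rfl
    obtain ⟨l, hl, hlp⟩ := ih (ℓ v) (hk ▸ hlt) hm (fun b hb => by
      have : (s : G)⁻¹ * n * b * ((s : G)⁻¹ * n)⁻¹ = (s : G)⁻¹ * (n * b * n⁻¹) * s := by group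
      rw [this]
      exact mul_mem (mul_mem (inv_mem hs) (hconj b hb)) hs) (by rw [hwm])
    exact ⟨s :: l, List.forall_mem_cons.2 ⟨hs, hl⟩, by simp [hlp, hwm, hv]⟩

theorem mem_of_conj_le {M : Subgroup G} (hM : P.B ≤ M) {n : G} (hn : n ∈ P.N)
    (hconj : ∀ b ∈ P.B, n * b * n⁻¹ ∈ M) : n ∈ M := by
  obtain ⟨l, hl, hlp⟩ := conj_le P hM hn hconj
  obtain ⟨m, hm, hc, he⟩ := sgen_word_mem_closure P (J := (M : Set G)) (l := l) hl
  rw [Subgroup.closure_eq] at hc
  exact (wk_mem_iff P hM hm hn (he.trans hlp)).1 hc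

theorem eq_parabolic {M : Subgroup G} (hM : P.B ≤ M) :
    M = P.parabolic {s | s ∈ P.S ∧ s ∈ M} := by
  refine le_antisymm (fun g hg => ?_) (sup_le hM (Subgroup.closure_le _ |>.2 fun s hs => hs.2))
  obtain ⟨w, hw⟩ := exists_cell P g
  obtain ⟨n, hn, rfl⟩ := exists_rep P w
  obtain ⟨b, hb, b', hb', rfl⟩ := (mem_cell_wk P hn).1 hw
  have hnM : n ∈ M := by
    have : n = b⁻¹ * (b * n * b') * b'⁻¹ := by group
    rw [this]
    exact mul_mem (mul_mem (inv_mem (hM hb)) hg) (inv_mem (hM hb'))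
  obtain ⟨l, hl, hlp⟩ := conj_le P hM hn
    (fun b hb => mul_mem (mul_mem hnM (hM hb)) (inv_mem hnM))
  exact (mem_parabolic P (fun s hs => hs.1)).2
    ⟨_, ⟨l, fun i hi => ⟨i.2, hl i hi⟩, hlp⟩, (mem_cell_wk P hn).2 ⟨b, hb, b', hb', rfl⟩⟩

theorem parabolic_inj {J K : Set G} (hJ : J ⊆ P.S) (hK : K ⊆ P.S)
    (h : P.parabolic J = P.parabolic K) : J = K :=
  Set.Subset.antisymm (fun _ hs => mem_parabolic_S P hK (hJ hs) (h ▸ subset_parabolic P hs))
    (fun _ hs => mem_parabolic_S P hJ (hK hs) (h ▸ subset_parabolic P hs))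

theorem parabolic_mono {J K : Set G} (h : J ⊆ K) : P.parabolic J ≤ P.parabolic K :=
  sup_le_sup le_rfl (Subgroup.closure_mono h)

theorem parabolic_le_iff {J K : Set G} (hJ : J ⊆ P.S) (hK : K ⊆ P.S) :
    P.parabolic J ≤ P.parabolic K ↔ J ⊆ K :=
  ⟨fun h _ hs => mem_parabolic_S P hK (hJ hs) (h (subset_parabolic P hs)), parabolic_mono P⟩

theorem commute_of_split {K : Subgroup G} [K.Normal] {s t : P.S}
    (hs : (s : G) ∈ P.B ⊔ K) (ht : (t : G) ∉ P.B ⊔ K) :
    sgen P t * sgen P s = sgen P s * sgen P t := by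
  set J : Set G := {x | x ∈ P.S ∧ x ∈ P.B ⊔ K} with hJdef
  have hJS : J ⊆ P.S := fun x hx => hx.1
  have hM : P.B ⊔ K = P.parabolic J := eq_parabolic P le_sup_left
  set σ := sgen P s with hσ
  set τ := sgen P t with hτ
  have hne : τ * σ ≠ 1 := fun h => by
    have : τ = σ := (mul_eq_one_iff_eq_inv.1 h).trans (sgen_inv P s)
    exact ht ((sgen_inj P this) ▸ hs)
  have hlσ : ℓ σ = 1 := (sys P).wlen_f s
  have hle : ℓ σ ≤ ℓ (τ * σ) := by
    rw [hlσ]
    exact Nat.one_le_iff_ne_zero.2 fun h => hne (eq_one_of_wlen_eq_zero (sgen_gen P) h)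
  obtain ⟨b, hb, k, hk, hbk⟩ := Subgroup.mem_sup_of_normal_right.1 hs
  have hks : k ∈ cell P σ := by
    have : k = b⁻¹ * (s : G) := by rw [← hbk]; group
    rw [this]
    exact cell_left P (inv_mem hb) (sgen_mem_cell P s)
  have hk2 : (t : G) * k ∈ cell P (τ * σ) := mul_cell_of_le' P hle hks
  have hconj : (t : G) * k * (t : G)⁻¹ ∈ P.B ⊔ K :=
    (le_sup_right : K ≤ P.B ⊔ K) (Subgroup.Normal.conj_mem inferInstance k hk _)
  -- in which cell
  have htJ : ∀ {w : Weyl P}, InW (sgen P) {i | (i : G) ∈ J} (τ * w) →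
      InW (sgen P) {i | (i : G) ∈ J} w → False := by
    rintro w ⟨l, hl, hlp⟩ ⟨r, hr, hrp⟩
    have : InW (sgen P) {i | (i : G) ∈ J} τ := by
      refine ⟨l ++ r.reverse, by simpa [or_imp, forall_and] using And.intro hl hr, ?_⟩
      have hrev : ∀ l : List P.S, (l.map (sgen P)).reverse.prod = ((l.map (sgen P)).prod)⁻¹ := by
        intro l
        induction l with
        | nil => simp
        | cons a r ih => simp [sgen_inv, ih]
      simp [hrev, hlp, hrp]
    exact ht ((sys P).mem_of_inW this).2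
  have hσJ : InW (sgen P) {i | (i : G) ∈ J} σ := ⟨[s], by simp [hJdef, hs], by simp [hσ]⟩
  have hττ : ∀ x, τ * (τ * x) = x := fun x => by rw [← mul_assoc, hτ, sgen_sq, one_mul]
  rw [hM] at hconj
  obtain ⟨w, hw, hg⟩ := (mem_parabolic P hJS).1 hconj
  rcases cell_mul_inv P t hk2 with h | h
  swap
  · have := eq_of_mem_cell P hg h
    subst this
    exact (htJ hw hσJ).elim
  have := eq_of_mem_cell P hg h
  subst this
  obtain ⟨l, hl, hlp, hllen⟩ := (sys P).exists_reduced_mem hw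
  change (l.map (sgen P)).prod = τ * σ * sgen P t at hlp
  change l.length = ℓ (τ * σ * sgen P t) at hllen
  rw [← hτ] at hlp hllen
  by_cases hd : ℓ (τ * (τ * σ * τ)) ≤ ℓ (τ * σ * τ)
  · obtain ⟨j, hj, he⟩ := exchange P t l (by rw [hlp]; exact hd)
    rw [hlp] at he
    exact (htJ ⟨l.eraseIdx j, fun i hi => hl i (List.mem_of_mem_eraseIdx hi), he.symm⟩ hw).elim
  have h2 : ℓ (τ * (τ * σ * τ)) ≤ 2 := by
    rw [mul_assoc τ σ τ, hττ]
    exact wlen_le_of_eq _ (l := [s, t]) (by simp [hσ, hτ])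
  have hlen1 : l.length ≤ 1 := by omega
  rcases l with _ | ⟨r, _ | ⟨x, y⟩⟩
  · exfalso
    have h3 : τ * σ * τ = 1 := hlp.symm
    apply sgen_ne_one P s
    calc σ = τ * (τ * σ * τ) * τ := by rw [mul_assoc τ σ τ, hττ, mul_assoc, hτ, sgen_sq, mul_one]
      _ = 1 := by rw [h3, mul_one, hτ, sgen_sq]
  · have h3 : τ * σ * τ = sgen P r := by simpa using hlp.symm
    have h4 := (sys P).mem_of_inW (i := r) (J := {i | i = s ∨ i = t})
      ⟨[t, s, t], by simp, by simpa [sys, mul_assoc] using h3⟩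
    have h5 := hl r (by simp)
    rcases h4 with h4 | h4
    · subst h4
      calc τ * σ = τ * σ * τ * τ := by rw [mul_assoc (τ * σ), hτ, sgen_sq, mul_one]
        _ = σ * τ := by rw [h3]
    · subst h4
      exact absurd h5.2 ht
  · simp at hlen1

theorem isSimpleGroup [Nontrivial G] (hirr : P.Irreducible) (hsolv : Group.IsSolvable P.B)
    (hperf : commutator G = ⊤) (hcore : P.B.normalCore = ⊥) : IsSimpleGroup G := by
  refine ⟨fun K hK => ?_⟩
  have hM : P.B ⊔ K = P.parabolic {x | x ∈ P.S ∧ x ∈ P.B ⊔ K} := eq_parabolic P le_sup_left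
  by_cases hJ0 : {x | x ∈ P.S ∧ x ∈ P.B ⊔ K}.Nonempty
  swap
  · left
    rw [Set.not_nonempty_iff_eq_empty] at hJ0
    rw [hJ0, Cfsg.BNPair.parabolic, Subgroup.closure_empty, sup_bot_eq] at hM
    exact le_bot_iff.1 (hcore ▸ Subgroup.normal_le_normalCore.2 (sup_eq_left.1 hM))
  by_cases hJ1 : (P.S \ {x | x ∈ P.S ∧ x ∈ P.B ⊔ K}).Nonempty
  · obtain ⟨s, hs, t, ht, hne⟩ := hirr _ (fun x hx => hx.1) hJ0 hJ1
    exfalso
    apply hne
    have hc := commute_of_split P (s := ⟨s, hs.1⟩) (t := ⟨t, ht.1⟩) hs.2 (fun h => ht.2 ⟨ht.1, h⟩)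
    have hsN := P.subset hs.1
    have htN := P.subset ht.1
    apply (wk_eq_one_iff P
      (mul_mem (mul_mem (mul_mem hsN htN) (inv_mem hsN)) (inv_mem htN))).1
    show sgen P ⟨s, hs.1⟩ * sgen P ⟨t, ht.1⟩ * (sgen P ⟨s, hs.1⟩)⁻¹ * (sgen P ⟨t, ht.1⟩)⁻¹ = 1
    rw [← hc]
    group
  right
  rw [Set.not_nonempty_iff_eq_empty, Set.sdiff_eq_empty] at hJ1
  have htop : P.B ⊔ K = ⊤ := top_le_iff.1 <| (parabolic_S P).ge.trans
    (sup_le le_sup_left (Subgroup.closure_le _ |>.2 fun s hs => (hJ1 hs).2))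
  have hsurj : Function.Surjective ((QuotientGroup.mk' K).comp P.B.subtype) := by
    intro x
    obtain ⟨g, rfl⟩ := QuotientGroup.mk'_surjective K x
    obtain ⟨b, hb, k, hk, rfl⟩ := Subgroup.mem_sup_of_normal_right.1
      (show g ∈ P.B ⊔ K by simp [htop])
    refine ⟨⟨b, hb⟩, ?_⟩
    rw [map_mul, (QuotientGroup.eq_one_iff k).2 hk |> fun h => (show QuotientGroup.mk' K k = 1 from h),
      mul_one]
    rfl
  have hq : Group.IsSolvable (G ⧸ K) := Group.isSolvable_of_surjective hsurj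
  obtain ⟨d, hd⟩ := hq.solvable
  have hds : ∀ i, derivedSeries G i = ⊤ := by
    intro i
    induction i with
    | zero => rfl
    | succ i ih => rw [derivedSeries_succ, ih]; exact hperf
  rw [← map_derivedSeries_eq (QuotientGroup.mk'_surjective K), hds, Subgroup.map_eq_bot_iff,
    QuotientGroup.ker_mk'] at hd
  exact top_le_iff.1 hd

end CfsgLib.BN
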