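import Cfsg.Agent.Lib.BN.Exchange
import Mathlib.Data.Fintype.Card

/-!
Minimal representatives of cosets and double cosets of standard subgroups, and the longest element.
-/

set_option autoImplicit false

namespace CfsgLib.BN

namespace ExchSys

variable {W ι : Type*} [Group W] (E : ExchSys W ι)

local notation "ℓ" => wlen E.f

theorem prod_reverse (l : List ι) : (l.reverse.map E.f).prod = (l.map E.f).prod⁻¹ := by
  induction l with
  | nil => simp
  | cons i a ih =>
    rw [List.reverse_cons, List.map_append, List.prod_append, ih]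
    simp [E.inv_f]

theorem wlen_inv (w : W) : ℓ w⁻¹ = ℓ w := by
  have key : ∀ w, ℓ w⁻¹ ≤ ℓ w := fun w => by
    obtain ⟨l, h1, h2⟩ := exists_reduced E.gen w
    exact (wlen_le_of_eq E.f (l := l.reverse) (by rw [prod_reverse, h1])).trans (by simp [h2])
  exact le_antisymm (key w) (by simpa using key w⁻¹)

theorem wlen_mul_le (v w : W) : ℓ (v * w) ≤ ℓ v + ℓ w := by
  obtain ⟨a, h1, h2⟩ := exists_reduced E.gen v
  obtain ⟨b, h3, h4⟩ := exists_reduced E.gen w
  exact (wlen_le_of_eq E.f (l := a ++ b) (by simp [h1, h3])).trans (by simp [h2, h4])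

theorem inW_inv {K : Set ι} {x : W} (h : InW E.f K x) : InW E.f K x⁻¹ := by
  obtain ⟨l, hl, rfl⟩ := h
  exact ⟨l.reverse, fun i hi => hl i (List.mem_reverse.1 hi), prod_reverse E l⟩

theorem inW_mul {K : Set ι} {x y : W} (hx : InW E.f K x) (hy : InW E.f K y) : InW E.f K (x * y) := by
  obtain ⟨a, ha, rfl⟩ := hx
  obtain ⟨b, hb, rfl⟩ := hy
  exact ⟨a ++ b, fun i hi => (List.mem_append.1 hi).elim (ha i) (hb i), by simp⟩

theorem inW_one {K : Set ι} : InW E.f K (1 : W) := ⟨[], by simp, rfl⟩

/-- `w` has no left descent in `K`. -/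
def LMin (K : Set ι) (w : W) : Prop := ∀ i ∈ K, ℓ w < ℓ (E.f i * w)

/-- `w` has no right descent in `K`. -/
def RMin (K : Set ι) (w : W) : Prop := ∀ i ∈ K, ℓ w < ℓ (w * E.f i)

theorem rMin_iff {K : Set ι} {w : W} : E.RMin K w ↔ E.LMin K w⁻¹ := by
  unfold RMin LMin
  refine forall₂_congr fun i _ => ?_
  rw [E.wlen_inv w, ← E.wlen_inv (w * E.f i), mul_inv_rev, E.inv_f]

theorem add_of_shortest {K : Set ι} {m : W} (hm : ∀ v, InW E.f K v → ℓ m ≤ ℓ (v * m)) {x : W}
    (hx : InW E.f K x) : ℓ (x * m) = ℓ x + ℓ m := by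
  obtain ⟨l, hl, rfl, hlen⟩ := E.exists_reduced_mem hx
  obtain ⟨b, hb, hblen⟩ := exists_reduced E.gen m
  clear hx
  induction l with
  | nil => simp [wlen_one]
  | cons i a ih =>
    have hla : ∀ j ∈ a, j ∈ K := fun j hj => hl j (List.mem_cons_of_mem _ hj)
    simp only [List.map_cons, List.prod_cons, List.length_cons] at hlen ⊢
    have ha : a.length = ℓ (a.map E.f).prod := by
      have h1 := wlen_mul_apply_le E.gen i (a.map E.f).prod
      have h2 := wlen_le E.f a
      omega
    have ih' := ih hla ha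
    rw [mul_assoc]
    by_cases h : ℓ (E.f i * ((a.map E.f).prod * m)) ≤ ℓ ((a.map E.f).prod * m)
    · exfalso
      have hp : ((a ++ b).map E.f).prod = (a.map E.f).prod * m := by simp [hb]
      rw [← hp] at h
      obtain ⟨j, hj, he⟩ := E.exch i (a ++ b) h
      rw [hp] at he
      rcases Nat.lt_or_ge j a.length with hj' | hj'
      · rw [List.eraseIdx_append_of_lt_length hj', List.map_append, List.prod_append, hb,
          ← mul_assoc, mul_left_inj] at he
        have := wlen_le_of_eq E.f he.symm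
        rw [List.length_eraseIdx_of_lt hj'] at this
        omega
      · rw [List.eraseIdx_append_of_length_le hj', List.map_append, List.prod_append] at he
        have hv : InW E.f K ((a.map E.f).prod⁻¹ * (E.f i * (a.map E.f).prod)) :=
          E.inW_mul (E.inW_inv ⟨a, hla, rfl⟩) ⟨i :: a, hl, by simp⟩
        have h1 := hm _ hv
        have e : (a.map E.f).prod⁻¹ * (E.f i * (a.map E.f).prod) * m =
            ((b.eraseIdx (j - a.length)).map E.f).prod := by
          rw [mul_assoc, mul_assoc, he, inv_mul_cancel_left]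
        rw [e] at h1
        have h2 := wlen_le E.f (b.eraseIdx (j - a.length))
        rw [List.length_append] at hj
        rw [List.length_eraseIdx_of_lt (by omega)] at h2
        omega
    · rw [E.gt_of_not_le h, ih']
      omega

theorem exists_shortest (K : Set ι) (w : W) :
    ∃ v, InW E.f K v ∧ ∀ u, InW E.f K u → ℓ (v * w) ≤ ℓ (u * (v * w)) := by
  classical
  have hne : ∃ k, ∃ v, InW E.f K v ∧ ℓ (v * w) = k := ⟨_, 1, E.inW_one, rfl⟩
  obtain ⟨v, hv, hvk⟩ := Nat.find_spec hne
  refine ⟨v, hv, fun u hu => ?_⟩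
  rw [hvk, ← mul_assoc]
  exact Nat.find_min' hne ⟨u * v, E.inW_mul hu hv, rfl⟩

theorem lMin_add {K : Set ι} {w x : W} (hw : E.LMin K w) (hx : InW E.f K x) :
    ℓ (x * w) = ℓ x + ℓ w := by
  obtain ⟨v, hv, hmin⟩ := E.exists_shortest K w
  have hadd := fun {y} (hy : InW E.f K y) => E.add_of_shortest hmin hy
  suffices v = 1 by
    subst this
    simpa using hadd hx
  by_contra hv1
  have hvi := E.inW_inv hv
  obtain ⟨l, hl, hlp, hlen⟩ := E.exists_reduced_mem hvi
  rcases l with _ | ⟨i, a⟩
  · exact hv1 (inv_eq_one.1 (by simpa using hlp.symm))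
  have h1 := hadd hvi
  rw [inv_mul_cancel_left] at h1
  have h2 := hw i (hl i List.mem_cons_self)
  have e : E.f i * w = (a.map E.f).prod * (v * w) := by
    have : (a.map E.f).prod = E.f i * v⁻¹ := by
      rw [← hlp, List.map_cons, List.prod_cons, E.mul_cancel]
    rw [this, mul_assoc, inv_mul_cancel_left]
  rw [e, hadd ⟨a, fun j hj => hl j (List.mem_cons_of_mem _ hj), rfl⟩] at h2
  have h3 := wlen_le E.f a
  simp only [List.length_cons] at hlen
  omega

theorem rMin_add {K : Set ι} {w x : W} (hw : E.RMin K w) (hx : InW E.f K x) :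
    ℓ (w * x) = ℓ w + ℓ x := by
  have h := E.lMin_add (E.rMin_iff.1 hw) (E.inW_inv hx)
  rw [← mul_inv_rev, E.wlen_inv, E.wlen_inv, E.wlen_inv] at h
  omega

theorem exists_rMin (K : Set ι) (w : W) : ∃ v, InW E.f K v ∧ E.RMin K (w * v) := by
  obtain ⟨v, hv, hmin⟩ := E.exists_shortest K w⁻¹
  refine ⟨v⁻¹, E.inW_inv hv, E.rMin_iff.2 ?_⟩
  rw [mul_inv_rev, inv_inv]
  intro i hi
  rw [E.add_of_shortest hmin ⟨[i], by simpa using hi, by simp⟩, E.wlen_f]
  omega

theorem rMin_unique {K : Set ι} {w v x : W} (hw : E.RMin K w) (hv : E.RMin K v)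
    (hx : InW E.f K x) (he : v = w * x) : x = 1 := by
  have h1 := E.rMin_add hw hx
  have h2 := E.rMin_add hv (E.inW_inv hx)
  rw [he, mul_inv_cancel_right, E.wlen_inv] at h2
  rw [← he] at h1 h2
  exact eq_one_of_wlen_eq_zero E.gen (by omega)

theorem exists_double_min (J K : Set ι) (w : W) :
    ∃ x y, InW E.f J x ∧ InW E.f K y ∧ E.LMin J (x * w * y) ∧ E.RMin K (x * w * y) := by
  classical
  have hne : ∃ k, ∃ x y, InW E.f J x ∧ InW E.f K y ∧ ℓ (x * w * y) = k :=
    ⟨_, 1, 1, E.inW_one, E.inW_one, rfl⟩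
  obtain ⟨x, y, hx, hy, hk⟩ := Nat.find_spec hne
  refine ⟨x, y, hx, hy, fun i hi => ?_, fun i hi => ?_⟩
  · have hs : InW E.f J (E.f i) := ⟨[i], by simpa using hi, by simp⟩
    have hle := Nat.find_min' hne ⟨E.f i * x, y, E.inW_mul hs hx, hy, rfl⟩
    rw [mul_assoc (E.f i), mul_assoc (E.f i)] at hle
    by_contra h
    push Not at h
    have := E.lt_of_le h
    omega
  · have hs : InW E.f K (E.f i) := ⟨[i], by simpa using hi, by simp⟩
    have hle := Nat.find_min' hne ⟨x, y * E.f i, hx, E.inW_mul hy hs, rfl⟩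
    rw [← mul_assoc, ← E.wlen_inv, mul_inv_rev, E.inv_f] at hle
    by_contra h
    push Not at h
    rw [← E.wlen_inv (x * w * y * E.f i), mul_inv_rev, E.inv_f, ← E.wlen_inv (x * w * y)] at h
    have := E.lt_of_le h
    rw [E.wlen_inv] at this
    omega

theorem double_min_le {J K : Set ι} {d e a b : W} (hl : E.LMin J e) (hr : E.RMin K e)
    (ha : InW E.f J a) (hb : InW E.f K b) (he : e = a * d * b) :
    ℓ e ≤ ℓ d ∧ (ℓ e = ℓ d → e = d) := by
  obtain ⟨la, hla, hlap, -⟩ := E.exists_reduced_mem ha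
  obtain ⟨lb, hlb, hlbp, -⟩ := E.exists_reduced_mem hb
  obtain ⟨ld, hldp, hldl⟩ := exists_reduced E.gen d
  obtain ⟨r, hsub, hrp, hrlen⟩ := E.deletion (la ++ (ld ++ lb))
  have hprod : ((la ++ (ld ++ lb)).map E.f).prod = e := by
    simp [hlap, hldp, hlbp, he, mul_assoc]
  rw [hprod] at hrp hrlen
  obtain ⟨r1, r23, rfl, h1, h23⟩ := List.sublist_append_iff.1 hsub
  obtain ⟨r2, r3, rfl, h2, h3⟩ := List.sublist_append_iff.1 h23
  simp only [List.length_append] at hrlen
  have hr1 : r1 = [] := by
    rcases r1 with _ | ⟨i, r1⟩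
    · rfl
    exfalso
    have h := hl i (hla i (h1.subset List.mem_cons_self))
    have e2 : E.f i * e = ((r1 ++ (r2 ++ r3)).map E.f).prod := by
      rw [← hrp, List.cons_append, List.map_cons, List.prod_cons, E.mul_cancel]
    rw [e2] at h
    have h' := wlen_le E.f (r1 ++ (r2 ++ r3))
    simp only [List.length_append, List.length_cons] at h' hrlen
    omega
  subst hr1
  have hr3 : r3 = [] := by
    rcases List.eq_nil_or_concat r3 with rfl | ⟨r3', i, rfl⟩
    · rfl
    exfalso
    have h := hr i (hlb i (h3.subset (by simp)))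
    have e2 : e * E.f i = ((r2 ++ r3').map E.f).prod := by
      rw [← hrp]
      simp [mul_assoc, E.sq]
    rw [e2] at h
    have h' := wlen_le E.f (r2 ++ r3')
    simp only [List.length_append, List.length_nil, List.length_concat] at h' hrlen
    omega
  subst hr3
  have hlen2 := h2.length_le
  simp only [List.length_nil, List.length_append] at hrlen
  refine ⟨by omega, fun heq => ?_⟩
  have : r2 = ld := h2.eq_of_length (by omega)
  subst this
  rw [← hldp, ← hrp]
  simp

theorem double_min_unique {J K : Set ι} {d e a b : W} (hdl : E.LMin J d) (hdr : E.RMin K d)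
    (hel : E.LMin J e) (her : E.RMin K e) (ha : InW E.f J a) (hb : InW E.f K b)
    (he : e = a * d * b) : e = d := by
  have h1 := E.double_min_le hel her ha hb he
  have h2 := E.double_min_le hdl hdr (E.inW_inv ha) (E.inW_inv hb) (e := d) (d := e)
    (by rw [he]; group)
  exact h1.2 (le_antisymm h1.1 h2.1)

/-- all letters are left descents -/
theorem top_add {w : W} (hw : ∀ i, ℓ (E.f i * w) < ℓ w) (y : W) : ℓ (y * w) + ℓ y = ℓ w := by
  obtain ⟨l, hlp, hlen⟩ := exists_reduced E.gen y
  subst hlp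
  induction l using List.reverseRecOn with
  | nil => simp [wlen_one]
  | append_singleton a i ih =>
    simp only [List.map_append, List.map_cons, List.map_nil, List.prod_append, List.prod_cons,
      List.prod_nil, mul_one, List.length_append, List.length_cons, List.length_nil] at hlen ⊢
    set A := (a.map E.f).prod with hA
    have ha : a.length = ℓ A := by
      have h1 := E.wlen_mul_le A (E.f i)
      have h2 := wlen_le E.f a
      rw [E.wlen_f] at h1
      rw [← hA] at h2
      omega
    have ih' := ih ha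
    obtain ⟨b, hb, hblen⟩ := exists_reduced E.gen (A * w)
    have hw' : ((a.reverse ++ b).map E.f).prod = w := by
      rw [List.map_append, List.prod_append, hb, prod_reverse, inv_mul_cancel_left]
    obtain ⟨j, hj, he⟩ := E.exch i (a.reverse ++ b) (by rw [hw']; exact (hw i).le)
    rw [hw'] at he
    rw [List.length_append, List.length_reverse] at hj
    rcases Nat.lt_or_ge j a.reverse.length with hj' | hj'
    · exfalso
      rw [List.eraseIdx_append_of_lt_length hj', List.map_append, List.prod_append, hb, ← mul_assoc,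
        mul_left_inj] at he
      have h1 : ((a.reverse.eraseIdx j).map E.f).prod = E.f i * A⁻¹ := by
        rw [he, mul_inv_cancel_right]
      have h2 := wlen_le E.f (a.reverse.eraseIdx j)
      rw [h1, List.length_eraseIdx_of_lt hj', List.length_reverse] at h2
      have h3 : ℓ (E.f i * A⁻¹) = ℓ (A * E.f i) := by
        rw [← E.wlen_inv, mul_inv_rev, inv_inv, E.inv_f]
      rw [h3] at h2
      rw [List.length_reverse] at hj'
      omega
    · rw [List.eraseIdx_append_of_length_le hj', List.map_append, List.prod_append, prod_reverse] at he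
      have e2 : A * E.f i * w = ((b.eraseIdx (j - a.reverse.length)).map E.f).prod := by
        rw [mul_assoc, he, mul_inv_cancel_left]
      have h2 := wlen_le E.f (b.eraseIdx (j - a.reverse.length))
      rw [← e2, List.length_eraseIdx_of_lt (by rw [List.length_reverse] at *; omega)] at h2
      have h4 := E.wlen_mul_le (A * E.f i)⁻¹ (A * E.f i * w)
      rw [inv_mul_cancel_left, E.wlen_inv] at h4
      rw [List.length_reverse] at hj'
      omega

theorem exists_top [Finite W] :
    ∃ w₀ : W, (∀ i, ℓ (E.f i * w₀) < ℓ w₀) ∧ (∀ i, ℓ (w₀ * E.f i) < ℓ w₀) ∧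
      ∀ w, (∀ i, ℓ (w * E.f i) < ℓ w) → w = w₀ := by
  classical
  haveI := Fintype.ofFinite W
  obtain ⟨w₀, -, hmax'⟩ := Finset.exists_max_image (Finset.univ : Finset W) (fun w => ℓ w)
    ⟨1, Finset.mem_univ _⟩
  have hmax : ∀ w : W, ℓ w ≤ ℓ w₀ := fun w => hmax' w (Finset.mem_univ w)
  have hl : ∀ i, ℓ (E.f i * w₀) < ℓ w₀ := fun i => by
    have := E.lt_of_le (hmax (E.f i * w₀))
    omega
  have hr : ∀ i, ℓ (w₀ * E.f i) < ℓ w₀ := fun i => by
    have h1 := hmax (w₀ * E.f i)
    rw [← E.wlen_inv (w₀ * E.f i), mul_inv_rev, E.inv_f, ← E.wlen_inv w₀] at h1 ⊢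
    have := E.lt_of_le h1
    omega
  refine ⟨w₀, hl, hr, fun w hw => ?_⟩
  have hwl : ∀ i, ℓ (E.f i * w⁻¹) < ℓ w⁻¹ := fun i => by
    rw [← E.wlen_inv (E.f i * w⁻¹), mul_inv_rev, inv_inv, E.inv_f, E.wlen_inv]
    exact hw i
  have h1 := E.top_add hwl (w₀ * w)
  have h2 := hmax w
  have h3 := E.top_add hwl (1 : W)
  rw [mul_inv_cancel_right, E.wlen_inv] at h1
  have h4 : ℓ (w₀ * w) = 0 := by omega
  have h5 := eq_one_of_wlen_eq_zero E.gen h4
  have h6 := E.top_add hl w
  have h7 : w = w₀⁻¹ := eq_inv_of_mul_eq_one_right h5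
  -- the longest element is an involution
  have h8 := E.top_add hl w₀
  have h9 : ℓ (w₀ * w₀) = 0 := by omega
  rw [h7, inv_eq_of_mul_eq_one_right (eq_one_of_wlen_eq_zero E.gen h9)]

end ExchSys

end CfsgLib.BN
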