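import Cfsg.Agent.Lib.BN.Basic
import Cfsg.Agent.Lib.BN.MinRep
import Cfsg.Agent.Lib.GLFlags.PermChar
import Cfsg.Agent.Lib.GLFlags.Unipotent

/-!
The alternating sum of the parabolic permutation characters of a finite Tits system: its restriction
to `B` is the permutation character on the cosets of `B ⊓ N`, and it is irreducible.
-/

set_option autoImplicit false

open Finset

namespace CfsgLib.BN

variable {G : Type*} [Group G] (P : Cfsg.BNPair G)

local notation "ℓ" => wlen (sgen P)

/-- A chosen representative. -/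
noncomputable def nw (w : Weyl P) : G := (exists_rep P w).choose

theorem nw_mem (w : Weyl P) : nw P w ∈ P.N := (exists_rep P w).choose_spec.choose

theorem wk_nw (w : Weyl P) : wk P (nw P w) (nw_mem P w) = w :=
  (exists_rep P w).choose_spec.choose_spec

theorem nw_mem_cell (w : Weyl P) : nw P w ∈ cell P w :=
  Eq.subst (motive := fun u => nw P w ∈ cell P u) (wk_nw P w) (self_mem_cell P _)

theorem mem_cell_iff {w : Weyl P} {g : G} :
    g ∈ cell P w ↔ ∃ b ∈ P.B, ∃ b' ∈ P.B, g = b * nw P w * b' := by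
  conv_lhs => rw [← wk_nw P w]
  exact mem_cell_wk P _

/-- The standard parabolic subgroup of a finite set of generators. -/
def Pk (K : Finset P.S) : Subgroup G := P.parabolic (Subtype.val '' (K : Set P.S))

theorem mem_Pk {K : Finset P.S} {g : G} :
    g ∈ Pk P K ↔ ∃ w, InW (sgen P) (K : Set P.S) w ∧ g ∈ cell P w := by
  rw [Pk, mem_parabolic P (by rintro _ ⟨i, -, rfl⟩; exact i.2)]
  have e : {i : P.S | (i : G) ∈ Subtype.val '' (K : Set P.S)} = (K : Set P.S) := by
    ext i
    exact Subtype.val_injective.mem_set_image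
  rw [e]

theorem B_le_Pk (K : Finset P.S) : P.B ≤ Pk P K := B_le_parabolic P _

theorem cell_mul_add {w v : Weyl P} {g h : G} (hlen : ℓ (w * v) = ℓ w + ℓ v) (hg : g ∈ cell P w)
    (hh : h ∈ cell P v) : g * h ∈ cell P (w * v) := by
  obtain ⟨l, rfl, hl⟩ := exists_reduced (sgen_gen P) w
  induction l generalizing g h with
  | nil =>
    simp only [List.map_nil, List.prod_nil, one_mul] at hg ⊢
    exact cell_left P ((mem_cell_one P).1 hg) hh
  | cons s a ih =>
    simp only [List.map_cons, List.prod_cons, List.length_cons] at hg hlen hl ⊢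
    set A := (a.map (sgen P)).prod with hA
    have h1 := wlen_mul_apply_le (sgen_gen P) s A
    have h2 : ℓ (A * v) ≤ ℓ A + ℓ v := (sys P).wlen_mul_le A v
    have h3 := wlen_le (sgen P) a
    rw [← hA] at h3
    have h4 := wlen_mul_apply_le (sgen_gen P) s (A * v)
    rw [mul_assoc] at hlen ⊢
    obtain ⟨c, hc, c', hc', rfl⟩ := (mem_cell_iff P).1 hg
    have hm : nw P (sgen P s * A) ∈ cell P (sgen P s * A) := nw_mem_cell P _
    have hsm : (s : G) * nw P A ∈ cell P (sgen P s * A) := mul_cell_of_le' P (by omega) (nw_mem_cell P A)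
    obtain ⟨d, hd, d', hd', hdd⟩ := (mem_cell_iff P).1 hsm
    have key : nw P (sgen P s * A) * (c' * h) ∈ cell P (sgen P s * (A * v)) := by
      rw [show nw P (sgen P s * A) * (c' * h) = d⁻¹ * ((s : G) * (nw P A * (d'⁻¹ * (c' * h)))) by
        calc nw P (sgen P s * A) * (c' * h) = d⁻¹ * (d * nw P (sgen P s * A) * d') * (d'⁻¹ * (c' * h)) := by group
          _ = _ := by rw [← hdd]; group]
      refine cell_left P (inv_mem hd) (mul_cell_of_le' P (by omega) ?_)
      have hh' := cell_left P (inv_mem hd') (cell_left P hc' hh)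
      exact ih (g := nw P A) (h := d'⁻¹ * (c' * h)) hh' (by omega) (nw_mem_cell P A) (by omega)
    rw [show c * nw P (sgen P s * A) * c' * h = c * (nw P (sgen P s * A) * (c' * h)) by group]
    exact cell_left P hc key

/-- The stabiliser in `B` of the point `n B`. -/
def bStab (n : G) : Subgroup P.B := (P.B.map (MulAut.conj n).toMonoidHom).subgroupOf P.B

theorem mem_bStab {n : G} {b : P.B} : b ∈ bStab P n ↔ n⁻¹ * b * n ∈ P.B := by
  rw [bStab, Subgroup.mem_subgroupOf, Subgroup.mem_map]
  constructor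
  · rintro ⟨x, hx, he⟩
    simp only [MulEquiv.coe_toMonoidHom, MulAut.conj_apply] at he
    rw [← he]
    simpa [mul_assoc] using hx
  · intro h
    exact ⟨_, h, by simp [mul_assoc]⟩

variable [Finite G]

theorem finite_S : Finite P.S := inferInstance

theorem finite_weyl : Finite (Weyl P) := inferInstance

section orbit

variable (K : Finset P.S)

/-- The minimal representatives for `K`. -/
abbrev MinRep : Type _ := {w : Weyl P // (sys P).RMin (K : Set P.S) w}

/-- The map from the orbits of `B` to the cosets. -/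
noncomputable def orbMap (x : Σ w : MinRep P K, P.B ⧸ bStab P (nw P w.1)) : G ⧸ Pk P K :=
  QuotientGroup.mk ((x.2.out : G) * nw P x.1.1)

omit [Finite G] in
theorem orbMap_mk (w : MinRep P K) (c : P.B) :
    orbMap P K ⟨w, QuotientGroup.mk c⟩ = QuotientGroup.mk ((c : G) * nw P w.1) := by
  obtain ⟨⟨h, hh⟩, hout⟩ := QuotientGroup.mk_out_eq_mul (bStab P (nw P w.1)) c
  rw [orbMap]
  show QuotientGroup.mk (((QuotientGroup.mk c : P.B ⧸ bStab P (nw P w.1)).out : G) * nw P w.1) = _
  rw [hout, Subgroup.coe_mul, QuotientGroup.eq]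
  have h1 := inv_mem ((mem_bStab P).1 hh)
  refine B_le_Pk P K ?_
  convert h1 using 1
  group

omit [Finite G] in
theorem orbMap_bijective : Function.Bijective (orbMap P K) := by
  constructor
  · rintro ⟨w, x⟩ ⟨w', x'⟩ h
    obtain ⟨c, rfl⟩ := QuotientGroup.mk_surjective x
    obtain ⟨c', rfl⟩ := QuotientGroup.mk_surjective x'
    rw [orbMap_mk, orbMap_mk, QuotientGroup.eq] at h
    obtain ⟨v, hv, hp⟩ := (mem_Pk P).1 h
    set p := ((c : G) * nw P w.1)⁻¹ * ((c' : G) * nw P w'.1) with hpdef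
    have hlen := (sys P).rMin_add w.2 hv
    have h1 : (c : G) * nw P w.1 * p ∈ cell P (w.1 * v) :=
      cell_mul_add P hlen (cell_left P c.2 (nw_mem_cell P w.1)) hp
    rw [hpdef, mul_inv_cancel_left] at h1
    have hw := eq_of_mem_cell P (cell_left P c'.2 (nw_mem_cell P w'.1)) h1
    have hv1 : v = 1 := (sys P).rMin_unique w.2 w'.2 hv hw
    rw [hv1, mul_one] at hw
    obtain rfl : w' = w := Subtype.ext hw
    rw [hv1] at hp
    refine Sigma.ext rfl (heq_of_eq (QuotientGroup.eq.2 ((mem_bStab P).2 ?_)))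
    convert (mem_cell_one P).1 hp using 1
    rw [hpdef, Subgroup.coe_mul, Subgroup.coe_inv]
    group
  · intro x
    obtain ⟨g, rfl⟩ := QuotientGroup.mk_surjective x
    obtain ⟨w, hw⟩ := exists_cell P g
    obtain ⟨v, hv, hmin⟩ := (sys P).exists_rMin (K : Set P.S) w
    obtain ⟨b, hb, b', hb', hbb⟩ := (mem_cell_iff P).1 hw
    refine ⟨⟨⟨w * v, hmin⟩, QuotientGroup.mk ⟨b, hb⟩⟩, ?_⟩
    have hlen := (sys P).rMin_add hmin ((sys P).inW_inv hv)
    rw [orbMap_mk, QuotientGroup.eq]
    have h2 : wk P (nw P (w * v) * nw P v⁻¹) (mul_mem (nw_mem P _) (nw_mem P _)) =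
        wk P (nw P w) (nw_mem P w) := by
      rw [wk_mul P (nw_mem P _) (nw_mem P _), wk_nw, wk_nw, wk_nw, mul_inv_cancel_right]
    rw [wk_eq_iff] at h2
    have h3 : nw P v⁻¹ ∈ Pk P K := (mem_Pk P).2 ⟨_, (sys P).inW_inv hv, nw_mem_cell P _⟩
    rw [hbb, show (b * nw P (w * v))⁻¹ * (b * nw P w * b') =
      nw P v⁻¹ * ((nw P (w * v) * nw P v⁻¹)⁻¹ * nw P w) * b' by group]
    exact mul_mem (mul_mem h3 (B_le_Pk P K h2)) (B_le_Pk P K hb')

omit [Finite G] in
theorem orbMap_smul (b : P.B) (w : MinRep P K) (x : P.B ⧸ bStab P (nw P w.1)) :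
    orbMap P K ⟨w, b • x⟩ = (b : G) • orbMap P K ⟨w, x⟩ := by
  obtain ⟨c, rfl⟩ := QuotientGroup.mk_surjective x
  rw [MulAction.Quotient.smul_mk, orbMap_mk, orbMap_mk, MulAction.Quotient.smul_mk, smul_eq_mul,
    smul_eq_mul, Subgroup.coe_mul, mul_assoc]

theorem fixedPointCharacter_Pk (b : P.B) [Fintype (MinRep P K)] :
    Cfsg.fixedPointCharacter (Pk P K) (b : G) =
      ∑ w : MinRep P K, Cfsg.fixedPointCharacter (bStab P (nw P w.1)) b := by
  simp only [Cfsg.fixedPointCharacter, ← Nat.cast_sum, ← Nat.card_sigma]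
  congr 1
  refine (Nat.card_eq_of_bijective (fun x : Σ w : MinRep P K, MulAction.fixedBy (P.B ⧸ bStab P (nw P w.1)) b =>
    (⟨orbMap P K ⟨x.1, x.2.1⟩, ?_⟩ : MulAction.fixedBy (G ⧸ Pk P K) (b : G))) ⟨?_, ?_⟩).symm
  · rw [MulAction.mem_fixedBy, ← orbMap_smul, MulAction.mem_fixedBy.1 x.2.2]
  · rintro ⟨w, x⟩ ⟨w', x'⟩ h
    have h' := (orbMap_bijective P K).1 (congrArg Subtype.val h)
    simp only [Sigma.mk.injEq] at h'
    obtain ⟨rfl, h'⟩ := h'
    exact Sigma.ext rfl (heq_of_eq (Subtype.ext (eq_of_heq h')))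
  · rintro ⟨y, hy⟩
    obtain ⟨⟨w, x⟩, rfl⟩ := (orbMap_bijective P K).2 y
    refine ⟨⟨w, x, ?_⟩, rfl⟩
    rw [MulAction.mem_fixedBy, ← orbMap_smul] at hy
    have h' := (orbMap_bijective P K).1 hy
    simp only [Sigma.mk.injEq, true_and] at h'
    exact eq_of_heq h'

end orbit

section double

variable (J K : Finset P.S)

/-- The minimal double coset representatives. -/
abbrev DblRep : Type _ :=
  {d : Weyl P // (sys P).LMin (J : Set P.S) d ∧ (sys P).RMin (K : Set P.S) d}

theorem card_orbits :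
    Nat.card (MulAction.orbitRel.Quotient G ((G ⧸ Pk P J) × (G ⧸ Pk P K))) =
      Nat.card (DblRep P J K) := by
  refine (Nat.card_eq_of_bijective (fun d : DblRep P J K => Quotient.mk''
    ((QuotientGroup.mk 1, QuotientGroup.mk (nw P d.1)) : (G ⧸ Pk P J) × (G ⧸ Pk P K))) ⟨?_, ?_⟩).symm
  · intro d e h
    rw [Quotient.eq''] at h
    obtain ⟨g, hg⟩ := h
    simp only [Prod.smul_mk, MulAction.Quotient.smul_mk, smul_eq_mul, Prod.mk.injEq, mul_one] at hg
    obtain ⟨hg1, hg2⟩ := hg
    rw [QuotientGroup.eq, mul_one] at hg1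
    obtain ⟨x, hx, hgx⟩ := (mem_Pk P).1 (inv_mem_iff.1 hg1)
    rw [QuotientGroup.eq] at hg2
    obtain ⟨v, hv, hp⟩ := (mem_Pk P).1 hg2
    have h1 : g * nw P e.1 ∈ cell P (x * e.1) :=
      cell_mul_add P ((sys P).lMin_add e.2.1 hx) hgx (nw_mem_cell P _)
    have h2 := cell_mul_add P (w := d.1) (v := v⁻¹) ((sys P).rMin_add d.2.2 ((sys P).inW_inv hv))
      (nw_mem_cell P d.1) (cell_inv P hp)
    rw [show nw P d.1 * ((g * nw P e.1)⁻¹ * nw P d.1)⁻¹ = g * nw P e.1 by group] at h2
    have he := eq_of_mem_cell P h1 h2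
    exact Subtype.ext ((sys P).double_min_unique d.2.1 d.2.2 e.2.1 e.2.2 ((sys P).inW_inv hx)
      ((sys P).inW_inv hv) (e := e.1) (by rw [mul_assoc, ← he, inv_mul_cancel_left])).symm
  · intro q
    induction q using Quotient.inductionOn'
    rename_i q
    obtain ⟨a, c⟩ := q
    obtain ⟨a, rfl⟩ := QuotientGroup.mk_surjective a
    obtain ⟨c, rfl⟩ := QuotientGroup.mk_surjective c
    obtain ⟨w, hw⟩ := exists_cell P (a⁻¹ * c)
    obtain ⟨b, hb, b', hb', hbb⟩ := (mem_cell_iff P).1 hw
    obtain ⟨x, y, hx, hy, hl, hr⟩ := (sys P).exists_double_min (J : Set P.S) (K : Set P.S) w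
    refine ⟨⟨x * w * y, hl, hr⟩, ?_⟩
    rw [Quotient.eq'']
    have h2 : wk P (nw P x * nw P w * nw P y) (mul_mem (mul_mem (nw_mem P _) (nw_mem P _)) (nw_mem P _)) =
        wk P (nw P (x * w * y)) (nw_mem P _) := by
      rw [wk_mul P (mul_mem (nw_mem P x) (nw_mem P w)) (nw_mem P y), wk_mul P (nw_mem P x) (nw_mem P w),
        wk_nw, wk_nw, wk_nw, wk_nw]
    rw [wk_eq_iff] at h2
    refine ⟨nw P x * b⁻¹ * a⁻¹, ?_⟩
    simp only [Prod.smul_mk, MulAction.Quotient.smul_mk, smul_eq_mul, Prod.mk.injEq, QuotientGroup.eq]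
    have hxJ : nw P x ∈ Pk P J := (mem_Pk P).2 ⟨_, hx, nw_mem_cell P _⟩
    have hyK : nw P y ∈ Pk P K := (mem_Pk P).2 ⟨_, hy, nw_mem_cell P _⟩
    constructor
    · rw [show (nw P x * b⁻¹ * a⁻¹ * a)⁻¹ * 1 = b * (nw P x)⁻¹ by group]
      exact mul_mem (B_le_Pk P J hb) (inv_mem hxJ)
    · rw [show (nw P x * b⁻¹ * a⁻¹ * c)⁻¹ * nw P (x * w * y) =
          b'⁻¹ * nw P y * ((nw P x * nw P w * nw P y)⁻¹ * nw P (x * w * y)) by
        rw [mul_assoc (nw P x * b⁻¹), hbb]; group]
      exact mul_mem (mul_mem (B_le_Pk P K (inv_mem hb')) hyK) (B_le_Pk P K h2)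

end double

/-- The alternating sum. -/
noncomputable def stChar : G → ℂ :=
  haveI := Fintype.ofFinite P.S
  fun g => ∑ K : Finset P.S, (-1 : ℂ) ^ K.card * Cfsg.fixedPointCharacter (Pk P K) g

theorem stChar_eq [Fintype P.S] (g : G) :
    stChar P g = ∑ K : Finset P.S, (-1 : ℂ) ^ K.card * Cfsg.fixedPointCharacter (Pk P K) g := by
  rw [stChar]
  exact Finset.sum_congr (by ext; simp) fun _ _ => rfl

open Classical in
theorem sum_alternating [Fintype P.S] (A : Finset P.S) (c : ℂ) :
    ∑ K : Finset P.S, (if K ⊆ A then (-1 : ℂ) ^ K.card * c else 0) = if A = ∅ then c else 0 := by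
  classical
  rw [← Finset.sum_filter, ← Finset.sum_mul,
    show (Finset.univ.filter fun K : Finset P.S => K ⊆ A) = A.powerset by ext; simp]
  have h := Finset.sum_powerset_neg_one_pow_card (x := A)
  have h' : (∑ K ∈ A.powerset, (-1 : ℂ) ^ K.card) = if A = ∅ then 1 else 0 := by
    have := congrArg (Int.cast : ℤ → ℂ) h
    push_cast at this
    rw [this]
  rw [h']
  split <;> simp

open Classical in
/-- The restriction to `B`. -/
theorem stChar_restrict {w₀ : Weyl P} (hw₀ : ∀ s, ℓ (w₀ * sgen P s) < ℓ w₀)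
    (huniq : ∀ w, (∀ s, ℓ (w * sgen P s) < ℓ w) → w = w₀) (b : P.B) :
    stChar P (b : G) = Cfsg.fixedPointCharacter (bStab P (nw P w₀)) b := by
  haveI := Fintype.ofFinite P.S
  haveI := Fintype.ofFinite (Weyl P)
  let A : Weyl P → Finset P.S := fun w => Finset.univ.filter fun s => ℓ w < ℓ (w * sgen P s)
  have hA : ∀ w (K : Finset P.S), (sys P).RMin (K : Set P.S) w ↔ K ⊆ A w := fun w K => by
    simp [ExchSys.RMin, A, Finset.subset_iff, sys]
  calc stChar P (b : G)
      = ∑ K : Finset P.S, ∑ w : Weyl P, (if K ⊆ A w then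
          (-1 : ℂ) ^ K.card * Cfsg.fixedPointCharacter (bStab P (nw P w)) b else 0) := by
        rw [stChar_eq]
        refine Finset.sum_congr rfl fun K _ => ?_
        rw [fixedPointCharacter_Pk P K b, Finset.mul_sum, ← Finset.sum_filter]
        exact (Finset.sum_subtype (Finset.univ.filter fun w => K ⊆ A w) (fun w => by simp [hA])
          (fun w => (-1 : ℂ) ^ K.card * Cfsg.fixedPointCharacter (bStab P (nw P w)) b)).symm
    _ = ∑ w : Weyl P, (if A w = ∅ then Cfsg.fixedPointCharacter (bStab P (nw P w)) b else 0) := by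
        rw [Finset.sum_comm]
        exact Finset.sum_congr rfl fun w _ => sum_alternating P (A w) _
    _ = _ := by
        rw [Finset.sum_eq_single w₀, if_pos]
        · simp only [A, Finset.filter_eq_empty_iff]
          exact fun s _ h => lt_asymm h (hw₀ s)
        · intro w _ hne
          refine if_neg fun h => hne (huniq w fun s => ?_)
          simp only [A, Finset.filter_eq_empty_iff, not_lt] at h
          have h1 := h (Finset.mem_univ s)
          rcases h1.lt_or_eq with h1 | h1
          · exact h1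
          · exfalso
            have h2 := (sys P).lt_of_le (i := s) (w := w⁻¹) (by
              show ℓ (sgen P s * w⁻¹) ≤ ℓ w⁻¹
              rw [show sgen P s * w⁻¹ = (w * sgen P s)⁻¹ by rw [mul_inv_rev, sgen_inv]]
              exact le_of_eq (((sys P).wlen_inv _).trans (h1.trans ((sys P).wlen_inv _).symm)))
            have e : (sys P).f s * w⁻¹ = (w * sgen P s)⁻¹ := by
              rw [mul_inv_rev, sgen_inv]; rfl
            rw [e, (sys P).wlen_inv, (sys P).wlen_inv] at h2
            have h1' : wlen (sys P).f (w * sgen P s) = wlen (sys P).f w := h1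
            omega
        · simp

theorem stChar_norm [Fintype G] : Cfsg.classInner (stChar P) (stChar P) = 1 := by
  classical
  haveI := Fintype.ofFinite P.S
  haveI := Fintype.ofFinite (Weyl P)
  obtain ⟨w₀, hl₀, hr₀, huniq⟩ := (sys P).exists_top
  let A : Weyl P → Finset P.S := fun w => Finset.univ.filter fun s => ℓ w < ℓ (w * sgen P s)
  let A' : Weyl P → Finset P.S := fun w => Finset.univ.filter fun s => ℓ w < ℓ (sgen P s * w)
  have hA : ∀ w (K : Finset P.S), (sys P).RMin (K : Set P.S) w ↔ K ⊆ A w := fun w K => by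
    simp [ExchSys.RMin, A, Finset.subset_iff, sys]
  have hA' : ∀ w (K : Finset P.S), (sys P).LMin (K : Set P.S) w ↔ K ⊆ A' w := fun w K => by
    simp [ExchSys.LMin, A', Finset.subset_iff, sys]
  have hfun : stChar P = ∑ K : Finset P.S, ((-1 : ℂ) ^ K.card) • Cfsg.fixedPointCharacter (Pk P K) := by
    funext g
    simp [stChar_eq P g, Finset.sum_apply]
  rw [hfun, CfsgLib.Char.classInner_sum_left]
  simp only [CfsgLib.Char.classInner_sum_right, CfsgLib.Char.classInner_smul_left,
    CfsgLib.Char.classInner_smul_right, map_pow, map_neg, map_one,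
    CfsgLib.GLFlags.classInner_fixedPointCharacter, card_orbits]
  calc _ = ∑ J : Finset P.S, ∑ K : Finset P.S, ∑ d : Weyl P, (if J ⊆ A' d ∧ K ⊆ A d then
          (-1 : ℂ) ^ J.card * (-1 : ℂ) ^ K.card else 0) := by
        refine Finset.sum_congr rfl fun J _ => Finset.sum_congr rfl fun K _ => ?_
        rw [← Finset.sum_filter, Finset.sum_const, nsmul_eq_mul, Nat.card_eq_fintype_card,
          Fintype.card_subtype]
        rw [show (Finset.univ.filter fun d => (sys P).LMin (J : Set P.S) d ∧ (sys P).RMin (K : Set P.S) d) =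
          Finset.univ.filter fun d => J ⊆ A' d ∧ K ⊆ A d from Finset.filter_congr fun d _ => by rw [hA, hA']]
        ring
    _ = ∑ d : Weyl P, ∑ J : Finset P.S, ∑ K : Finset P.S, (if J ⊆ A' d ∧ K ⊆ A d then
          (-1 : ℂ) ^ J.card * (-1 : ℂ) ^ K.card else 0) := by
        rw [Finset.sum_congr rfl fun J _ => Finset.sum_comm, Finset.sum_comm]
    _ = ∑ d : Weyl P, (if A' d = ∅ then (1 : ℂ) else 0) * (if A d = ∅ then (1 : ℂ) else 0) := by
        refine Finset.sum_congr rfl fun d _ => ?_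
        rw [← sum_alternating P (A' d) 1, ← sum_alternating P (A d) 1, Finset.sum_mul_sum]
        refine Finset.sum_congr rfl fun J _ => Finset.sum_congr rfl fun K _ => ?_
        by_cases h1 : J ⊆ A' d <;> by_cases h2 : K ⊆ A d <;> simp [h1, h2]
    _ = 1 := by
        have hdesc : ∀ w, A w = ∅ → ∀ s, ℓ (w * sgen P s) < ℓ w := by
          intro w h s
          simp only [A, Finset.filter_eq_empty_iff, not_lt] at h
          have h1 := h (Finset.mem_univ s)
          rcases h1.lt_or_eq with h1 | h1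
          · exact h1
          · exfalso
            have e : (sys P).f s * w⁻¹ = (w * sgen P s)⁻¹ := by
              rw [mul_inv_rev, sgen_inv]; rfl
            have h1' : wlen (sys P).f (w * sgen P s) = wlen (sys P).f w := h1
            have h2 := (sys P).lt_of_le (i := s) (w := w⁻¹)
              (by rw [e, (sys P).wlen_inv, (sys P).wlen_inv, h1'])
            rw [e, (sys P).wlen_inv, (sys P).wlen_inv] at h2
            omega
        rw [Finset.sum_eq_single w₀, if_pos, if_pos, one_mul]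
        · simp only [A, Finset.filter_eq_empty_iff]
          exact fun s _ h => lt_asymm h (hr₀ s)
        · simp only [A', Finset.filter_eq_empty_iff]
          exact fun s _ h => lt_asymm h (hl₀ s)
        · intro d _ hne
          rw [if_neg (c := A d = ∅) fun h => hne (huniq d (hdesc d h)), mul_zero]
        · simp

theorem isGeneralizedCharacter_stChar : Cfsg.IsGeneralizedCharacter G (stChar P) := by
  haveI := Fintype.ofFinite P.S
  have hfun : stChar P = ∑ K : Finset P.S, (((-1 : ℤ) ^ K.card : ℤ) : ℂ) • Cfsg.fixedPointCharacter (Pk P K) := by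
    funext g
    simp [stChar_eq P g, Finset.sum_apply]
  rw [hfun]
  exact CfsgLib.Char.IsGeneralizedCharacter.sum _ _ fun K _ =>
    CfsgLib.Char.IsGeneralizedCharacter.intCast_smul (CfsgLib.Char.IsCharacter.isGeneralizedCharacter
      (CfsgLib.GLFlags.isCharacter_fixedPointCharacter _)) _

theorem isIrrCharacter_stChar : Cfsg.IsIrrCharacter G (stChar P) := by
  classical
  haveI := Fintype.ofFinite G
  obtain ⟨w₀, -, hr₀, huniq⟩ := (sys P).exists_top
  refine CfsgLib.GLFlags.isIrrCharacter_of_norm_one (isGeneralizedCharacter_stChar P) (stChar_norm P)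
    ⟨(Nat.card (P.B ⧸ bStab P (nw P w₀)) : ℤ), by exact_mod_cast Nat.card_pos, ?_⟩
  have h := stChar_restrict P hr₀ huniq (1 : P.B)
  rw [OneMemClass.coe_one, CfsgLib.GLFlags.fixedPointCharacter_one] at h
  rw [h]
  norm_cast

end CfsgLib.BN
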