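import Cfsg.Agent.Lib.BN.UnipCount
import Cfsg.Agent.Lib.Char.Integral
import Mathlib.GroupTheory.OrderOfElement
import Mathlib.Data.Nat.Totient

/-!
The value of the Steinberg character at an element of order prime to `p`: up to sign the order of a
`p`-subgroup of its centraliser.
-/

set_option autoImplicit false

open Finset

namespace CfsgLib.BN

namespace ExchSys

variable {W ι : Type*} [Group W] (E : ExchSys W ι)

local notation "ℓ" => wlen E.f

theorem eq_f_of_wlen_one {K : Set ι} {x : W} (hx : InW E.f K x) (h : ℓ x = 1) :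
    ∃ t ∈ K, x = E.f t := by
  obtain ⟨l, hl, hp, hlen⟩ := E.exists_reduced_mem hx
  rw [h, List.length_eq_one_iff] at hlen
  obtain ⟨a, rfl⟩ := hlen
  exact ⟨a, hl a (List.mem_singleton.2 rfl), by simpa using hp.symm⟩

/-- The letters of `v` conjugate into `K` by `w`. -/
theorem letters_conj {J K : Set ι} {w : W} (hJ : E.LMin J w) (hK : E.RMin K w) :
    ∀ (l : List ι) (k : W), (∀ i ∈ l, i ∈ J) → l.length = ℓ (l.map E.f).prod → InW E.f K k →
      (l.map E.f).prod * w = w * k → ∀ i ∈ l, ∃ t ∈ K, w⁻¹ * E.f i * w = E.f t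
  | [], _, _, _, _, _ => by simp
  | s :: a, k, hl, hlen, hk, he => by
    have hla : ∀ i ∈ a, i ∈ J := fun i hi => hl i (List.mem_cons_of_mem _ hi)
    simp only [List.map_cons, List.prod_cons, List.length_cons] at hlen he
    set A := (a.map E.f).prod with hA
    have ha : a.length = ℓ A := by
      have h1 := wlen_mul_apply_le E.gen s A
      have h2 : ℓ A ≤ a.length := hA ▸ wlen_le E.f a
      omega
    have hsJ : s ∈ J := hl s List.mem_cons_self
    have hv : InW E.f J (E.f s * A) := ⟨s :: a, hl, by simp [hA]⟩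
    have hlv := E.lMin_add hJ hv
    have hla' := E.lMin_add hJ (x := A) ⟨a, hla, rfl⟩
    have e1 : E.f s * (w * k) = A * w := by rw [← he, ← mul_assoc, E.mul_cancel]
    obtain ⟨lw, hlw, hlwlen⟩ := exists_reduced E.gen w
    obtain ⟨lk, hlk, hlkp, hlklen⟩ := E.exists_reduced_mem hk
    have hp : ((lw ++ lk).map E.f).prod = w * k := by simp [hlw, hlkp]
    obtain ⟨j, hj, hje⟩ := E.exch s (lw ++ lk) (by rw [hp, e1, ← he]; omega)
    rw [hp] at hje
    rcases Nat.lt_or_ge j lw.length with hlt | hge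
    · exfalso
      rw [List.eraseIdx_append_of_lt_length hlt, List.map_append, List.prod_append, hlkp,
        ← mul_assoc] at hje
      have h1 := wlen_le_of_eq E.f (mul_right_cancel hje).symm
      rw [List.length_eraseIdx_of_lt hlt] at h1
      have h2 := hJ s hsJ
      omega
    · rw [List.eraseIdx_append_of_length_le hge, List.map_append, List.prod_append, hlw] at hje
      set k' := ((lk.eraseIdx (j - lw.length)).map E.f).prod
      have hk' : InW E.f K k' :=
        ⟨_, fun i hi => hlk i ((List.eraseIdx_sublist lk _).subset hi), rfl⟩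
      have e2 : E.f s * w = w * (k' * k⁻¹) := by rw [← mul_assoc w, ← hje]; group
      have hone : ℓ (k' * k⁻¹) = 1 := by
        have h1 := E.rMin_add hK (E.inW_mul hk' (E.inW_inv hk))
        rw [← e2, E.lMin_add hJ (x := E.f s) ⟨[s], by simpa using hsJ, by simp⟩, E.wlen_f] at h1
        omega
      obtain ⟨t, ht, hte⟩ := E.eq_f_of_wlen_one (E.inW_mul hk' (E.inW_inv hk)) hone
      intro i hi
      rcases List.mem_cons.1 hi with rfl | hi
      · exact ⟨t, ht, by rw [mul_assoc, e2, hte, inv_mul_cancel_left]⟩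
      · exact letters_conj hJ hK a k' hla ha hk' (by rw [← hA, ← e1, hje]) i hi

/-- The only `J`-minimal element conjugating `J` to exactly its ascents. -/
theorem existsUnique_ascent [Finite W] (J : Set ι) :
    ∃! w : W, E.LMin J w ∧ (∀ s ∈ J, ∃ t, w⁻¹ * E.f s * w = E.f t) ∧
      ∀ t, ℓ w < ℓ (w * E.f t) → ∃ s ∈ J, w⁻¹ * E.f s * w = E.f t := by
  obtain ⟨v, hv⟩ := E.exists_isTop J
  obtain ⟨w₀, hl₀, hr₀, huniq⟩ := E.exists_top
  have hw₀inv : w₀⁻¹ = w₀ := huniq _ fun i => by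
    rw [← E.wlen_inv (w₀⁻¹ * E.f i), mul_inv_rev, inv_inv, E.inv_f, E.wlen_inv]
    exact hl₀ i
  have hone : ∀ i, InW E.f J (E.f i) ↔ i ∈ J := fun i =>
    ⟨E.mem_of_inW, fun h => ⟨[i], by simpa using h, by simp⟩⟩
  have hvr : ∀ i ∈ J, ℓ (v * E.f i) < ℓ v := by
    intro i hi
    have h1 := hv.2 (v * E.f i) (E.inW_mul hv.1 ((hone i).2 hi))
    rw [show (v * E.f i)⁻¹ * v = (E.f i)⁻¹ by group, E.inv_f, E.wlen_f] at h1
    omega
  set u := v⁻¹ with hu
  have huJ : InW E.f J u := E.inW_inv hv.1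
  have hul : ∀ i ∈ J, ℓ (E.f i * u) < ℓ u := fun i hi => by
    rw [hu, show E.f i * v⁻¹ = (v * E.f i)⁻¹ by rw [mul_inv_rev, E.inv_f], E.wlen_inv, E.wlen_inv]
    exact hvr i hi
  have hconj : ∀ i ∈ J, ∃ i' ∈ J, u⁻¹ * E.f i * u = E.f i' := by
    intro i hi
    refine E.eq_f_of_wlen_one (E.inW_mul (E.inW_mul (E.inW_inv huJ) ((hone i).2 hi)) huJ) ?_
    have h1 := E.top_add_mem hul (E.inW_mul (E.inW_inv huJ) ((hone i).2 hi))
    have h2 := E.top_add_mem hul ((hone i).2 hi)
    rw [E.wlen_f] at h2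
    rw [show ℓ (u⁻¹ * E.f i) = ℓ (E.f i * u) by rw [← E.wlen_inv, mul_inv_rev, inv_inv, E.inv_f]] at h1
    omega
  have hconj₀ : ∀ i, ∃ i', w₀⁻¹ * E.f i * w₀ = E.f i' := by
    intro i
    obtain ⟨i', -, h⟩ := E.eq_f_of_wlen_one (K := Set.univ) (x := w₀⁻¹ * E.f i * w₀)
      (by obtain ⟨l, hl⟩ := E.gen (w₀⁻¹ * E.f i * w₀); exact ⟨l, fun _ _ => trivial, hl⟩) (by
      have h1 := E.top_add hl₀ (w₀⁻¹ * E.f i)
      have h2 := E.top_add hl₀ (E.f i)
      rw [E.wlen_f] at h2
      rw [show ℓ (w₀⁻¹ * E.f i) = ℓ (E.f i * w₀) by rw [← E.wlen_inv, mul_inv_rev, inv_inv, E.inv_f]] at h1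
      omega)
    exact ⟨i', h⟩
  refine ⟨u * w₀, ⟨?_, ?_, ?_⟩, ?_⟩
  · intro i hi
    have h1 := E.top_add hl₀ (E.f i * u)
    have h2 := E.top_add hl₀ u
    have h3 := hul i hi
    rw [← mul_assoc]
    omega
  · intro i hi
    obtain ⟨i', -, h'⟩ := hconj i hi
    obtain ⟨t, ht⟩ := hconj₀ i'
    exact ⟨t, by rw [← ht, ← h']; group⟩
  · intro t ht
    obtain ⟨t', ht'⟩ := hconj₀ t
    rw [hw₀inv] at ht'
    have e : u * w₀ * E.f t = u * E.f t' * w₀ := by
      rw [← ht']
      conv_lhs => rw [← mul_one (u * w₀ * E.f t), ← inv_mul_cancel w₀, hw₀inv]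
      simp only [mul_assoc]
    have h1 := E.top_add hl₀ (u * E.f t')
    have h2 := E.top_add hl₀ u
    rw [e] at ht
    have hlt : ℓ (u * E.f t') < ℓ u := by omega
    have ht'J : t' ∈ J := by
      obtain ⟨l, hl, hlp, hlen⟩ := E.exists_reduced_mem (E.inW_inv huJ)
      have h3 : ℓ (E.f t' * u⁻¹) ≤ ℓ u⁻¹ := by
        rw [show E.f t' * u⁻¹ = (u * E.f t')⁻¹ by rw [mul_inv_rev, E.inv_f], E.wlen_inv, E.wlen_inv]
        omega
      obtain ⟨j, -, hje⟩ := E.exch t' l (by rw [hlp]; exact h3)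
      rw [hlp] at hje
      refine E.mem_of_inW ?_
      have h4 : InW E.f J (E.f t' * u⁻¹) := by
        rw [hje]; exact ⟨_, fun i hi => hl i ((List.eraseIdx_sublist l j).subset hi), rfl⟩
      have h5 := E.inW_mul h4 huJ
      rwa [inv_mul_cancel_right] at h5
    obtain ⟨s, hs, hse⟩ : ∃ s ∈ J, u * E.f t' * u⁻¹ = E.f s := by
      refine E.eq_f_of_wlen_one (E.inW_mul (E.inW_mul huJ ((hone t').2 ht'J)) (E.inW_inv huJ)) ?_
      have h3 : InW E.f J (u * E.f t') := E.inW_mul huJ ((hone t').2 ht'J)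
      have h6 : ∀ i ∈ J, ℓ (E.f i * u⁻¹) < ℓ u⁻¹ := fun i hi => by
        rw [hu, inv_inv]
        have := hv.2 (E.f i) ((hone i).2 hi)
        rw [E.inv_f, E.wlen_f] at this
        omega
      have h4 := E.top_add_mem h6 h3
      have h5 := E.top_add_mem hul (y := E.f t' * u⁻¹) (E.inW_mul ((hone t').2 ht'J) (E.inW_inv huJ))
      rw [inv_mul_cancel_right, E.wlen_f, show E.f t' * u⁻¹ = (u * E.f t')⁻¹ by
        rw [mul_inv_rev, E.inv_f], E.wlen_inv] at h5
      rw [E.wlen_inv] at h4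
      omega
    refine ⟨s, hs, ?_⟩
    rw [← hse]
    calc (u * w₀)⁻¹ * (u * E.f t' * u⁻¹) * (u * w₀) = w₀⁻¹ * E.f t' * w₀ := by group
      _ = E.f t := by rw [← ht', hw₀inv]; conv_rhs => rw [← one_mul (E.f t), ← mul_one (_ * E.f t),
          ← inv_mul_cancel w₀, hw₀inv]
                      simp only [mul_assoc]
  · rintro w ⟨hw, hwc, hwa⟩
    have hvw := E.lMin_add hw hv.1
    have htop : v * w = w₀ := huniq _ fun t => by
      rcases Nat.lt_or_ge (ℓ w) (ℓ (w * E.f t)) with h | h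
      · obtain ⟨s, hs, hse⟩ := hwa t h
        have e : v * w * E.f t = v * E.f s * w := by rw [← hse]; group
        rw [e, hvw]
        have := E.wlen_mul_le (v * E.f s) w
        have := hvr s hs
        omega
      · have h' := E.wlen_mul_f_lt (i := t) (w := w) h
        rw [mul_assoc, hvw]
        have := E.wlen_mul_le v (w * E.f t)
        omega
    rw [hu, ← htop, inv_mul_cancel_left]

end ExchSys

variable {G : Type*} [Group G] (P : Cfsg.BNPair G)

local notation "ℓ" => wlen (sgen P)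

/-- `w` conjugates every letter of `J` into `K`. -/
def Good (J K : Finset P.S) (w : Weyl P) : Prop :=
  ∀ s ∈ J, ∃ t ∈ K, w⁻¹ * sgen P s * w = sgen P t

theorem wk_conj_mem {J K : Finset P.S} {w : Weyl P} (hl : (sys P).LMin (J : Set P.S) w)
    (hr : (sys P).RMin (K : Set P.S) w) {x : G} (hx : x ∈ Pk P J)
    (hk : (nw P w)⁻¹ * x * nw P w ∈ Pk P K) [DecidablePred fun s : P.S => ∃ t ∈ K, w⁻¹ * sgen P s * w = sgen P t] :
    x ∈ Pk P (J.filter fun s => ∃ t ∈ K, w⁻¹ * sgen P s * w = sgen P t) := by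
  obtain ⟨v, hv, hxv⟩ := (mem_Pk P).1 hx
  obtain ⟨k, hkK, hkk⟩ := (mem_Pk P).1 hk
  have h1 : x * nw P w ∈ cell P (v * w) :=
    cell_mul_add P ((sys P).lMin_add hl hv) hxv (nw_mem_cell P w)
  have h2 : nw P w * ((nw P w)⁻¹ * x * nw P w) ∈ cell P (w * k) :=
    cell_mul_add P ((sys P).rMin_add hr hkK) (nw_mem_cell P w) hkk
  rw [← mul_assoc, mul_inv_cancel_left] at h2
  have he := eq_of_mem_cell P h1 h2
  obtain ⟨l, hlJ, hlp, hlen⟩ := (sys P).exists_reduced_mem hv
  refine (mem_Pk P).2 ⟨v, ⟨l, fun i hi => ?_, hlp⟩, hxv⟩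
  rw [Finset.coe_filter]
  exact ⟨hlJ i hi, (sys P).letters_conj hl hr l k hlJ (by rw [hlp]; exact hlen) hkK (by rw [hlp]; exact he) i hi⟩

section Count

variable [Finite G] {J : Finset P.S}

/-- The standard point of a double coset. -/
noncomputable def dpt (K : Finset P.S) (w : Weyl P) : G ⧸ Pk P K := ((nw P w : G) : G ⧸ Pk P K)

omit [Finite G] in
theorem exists_dblRep (K : Finset P.S) (y : G ⧸ Pk P K) :
    ∃ d : DblRep P J K, ∃ p ∈ Pk P J, p • dpt P K d.1 = y := by
  obtain ⟨g, rfl⟩ := QuotientGroup.mk_surjective y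
  obtain ⟨u, hu⟩ := exists_cell P g
  obtain ⟨a, b, ha, hb, hl, hr⟩ := (sys P).exists_double_min (J : Set P.S) (K : Set P.S) u
  obtain ⟨c, hc, c', hc', rfl⟩ := (mem_cell_iff P).1 hu
  have hn : wk P (nw P a⁻¹ * nw P (a * u * b) * nw P b⁻¹)
      (mul_mem (mul_mem (nw_mem P _) (nw_mem P _)) (nw_mem P _)) = wk P (nw P u) (nw_mem P u) := by
    rw [wk_mul P (mul_mem (nw_mem P _) (nw_mem P _)) (nw_mem P _), wk_mul P (nw_mem P _) (nw_mem P _),
      wk_nw, wk_nw, wk_nw, wk_nw]
    group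
  rw [wk_eq_iff] at hn
  refine ⟨⟨a * u * b, hl, hr⟩, c * nw P a⁻¹,
    mul_mem (B_le_Pk P J hc) ((mem_Pk P).2 ⟨_, (sys P).inW_inv ha, nw_mem_cell P _⟩), ?_⟩
  show ((c * nw P a⁻¹ * nw P (a * u * b) : G) : G ⧸ Pk P K) = _
  rw [QuotientGroup.eq, show (c * nw P a⁻¹ * nw P (a * u * b))⁻¹ * (c * nw P u * c') =
    nw P b⁻¹ * ((nw P a⁻¹ * nw P (a * u * b) * nw P b⁻¹)⁻¹ * nw P u) * c' by group]
  exact mul_mem (mul_mem ((mem_Pk P).2 ⟨_, (sys P).inW_inv hb, nw_mem_cell P _⟩) (B_le_Pk P K hn))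
    (B_le_Pk P K hc')

omit [Finite G] in
theorem dblRep_unique {K : Finset P.S} {d e : DblRep P J K} {p p' : G} (hp : p ∈ Pk P J)
    (hp' : p' ∈ Pk P J) (h : p • dpt P K d.1 = p' • dpt P K e.1) : d = e := by
  have h' : ((p * nw P d.1 : G) : G ⧸ Pk P K) = ((p' * nw P e.1 : G) : G ⧸ Pk P K) := h
  rw [QuotientGroup.eq] at h'
  obtain ⟨b, hb, hbc⟩ := (mem_Pk P).1 h'
  obtain ⟨a, ha, hac⟩ := (mem_Pk P).1 (mul_mem (inv_mem hp) hp')
  have h1 := cell_mul_add P ((sys P).lMin_add e.2.1 ha) hac (nw_mem_cell P e.1)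
  have h2 := cell_mul_add P ((sys P).rMin_add d.2.2 hb) (nw_mem_cell P d.1) hbc
  rw [show nw P d.1 * ((p * nw P d.1)⁻¹ * (p' * nw P e.1)) = p⁻¹ * p' * nw P e.1 by group] at h2
  have he := eq_of_mem_cell P h1 h2
  refine Subtype.ext ((sys P).double_min_unique e.2.1 e.2.2 d.2.1 d.2.2 ha ((sys P).inW_inv hb) ?_)
  rw [he, mul_inv_cancel_right]

open scoped Classical in
/-- Averaging over the radical: only the fixed orbits survive. -/
theorem sum_fix_radical [Fintype G] (U : Subgroup G) (hUB : U ≤ P.B)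
    (hUN : Pk P J ≤ Subgroup.normalizer (U : Set G)) (K : Finset P.S)
    (htrans : ∀ w, (sys P).LMin (J : Set P.S) w → Good P J K w →
      ∀ x ∈ Pk P J, ∃ u ∈ U, (nw P w)⁻¹ * (u⁻¹ * x) * nw P w ∈ Pk P K)
    {g : G} (hg : g ∈ Pk P J)
    (hell : ∀ J' ⊆ J, ∀ c : G, c⁻¹ * g * c ∈ Pk P J' → J' = J) :
    ∑ u : U, Nat.card (MulAction.fixedBy (G ⧸ Pk P K) (g * u)) =
      Nat.card U * Nat.card {d : DblRep P J K // Good P J K d.1} := by
  classical
  haveI : Fintype (DblRep P J K) := Fintype.ofFinite _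
  haveI : Fintype (G ⧸ Pk P K) := Fintype.ofFinite _
  have hUJ : U ≤ Pk P J := hUB.trans (B_le_Pk P J)
  let pos : G ⧸ Pk P K → DblRep P J K := fun y => (exists_dblRep P K y).choose
  have hpos : ∀ y, ∃ p ∈ Pk P J, p • dpt P K (pos y).1 = y := fun y => (exists_dblRep P K y).choose_spec
  let T : G ⧸ Pk P K → ℕ := fun y => (Finset.univ.filter fun u : U => (g * (u : G)) • y = y).card
  have e0 : ∑ u : U, Nat.card (MulAction.fixedBy (G ⧸ Pk P K) (g * u)) = ∑ y, T y := by
    simp only [T, Nat.card_eq_fintype_card, Fintype.card_subtype, Finset.card_filter, MulAction.mem_fixedBy]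
    exact Finset.sum_comm
  rw [e0, ← Finset.sum_fiberwise Finset.univ pos]
  refine Eq.trans ?_ (show (∑ d : DblRep P J K, if Good P J K d.1 then Nat.card U else 0) = _ by
    rw [← Finset.sum_filter, Finset.sum_const, smul_eq_mul, mul_comm,
      Nat.card_eq_fintype_card (α := {d : DblRep P J K // Good P J K d.1}), Fintype.card_subtype])
  refine Finset.sum_congr rfl fun d _ => ?_
  split_ifs with hgood
  · -- the orbit of the radical
    let φ : U → G ⧸ Pk P K := fun u => (u : G) • dpt P K d.1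
    have hfib : ∀ y, y ∈ Finset.univ.filter (fun y => pos y = d) ↔ ∃ u : U, φ u = y := by
      intro y
      simp only [Finset.mem_filter, Finset.mem_univ, true_and]
      constructor
      · rintro rfl
        obtain ⟨p, hp, hpy⟩ := hpos y
        obtain ⟨u, hu, huk⟩ := htrans _ (pos y).2.1 hgood p hp
        refine ⟨⟨u, hu⟩, Eq.trans ?_ hpy⟩
        show ((u * nw P (pos y).1 : G) : G ⧸ Pk P K) = ((p * nw P (pos y).1 : G) : G ⧸ Pk P K)
        rw [QuotientGroup.eq]
        convert huk using 1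
        group
      · rintro ⟨u, rfl⟩
        obtain ⟨p, hp, hpy⟩ := hpos (φ u)
        exact dblRep_unique P hp (hUJ u.2) hpy
    set O := Finset.univ.filter fun y => pos y = d
    let c₀ := (Finset.univ.filter fun u : U => (u : G) • dpt P K d.1 = dpt P K d.1).card
    have hcount : ∀ y ∈ O, ∀ z ∈ O, (Finset.univ.filter fun u : U => (u : G) • y = z).card = c₀ := by
      intro y hy z hz
      obtain ⟨a, rfl⟩ := (hfib y).1 hy
      obtain ⟨b, rfl⟩ := (hfib z).1 hz
      refine Finset.card_equiv ((Equiv.mulLeft b⁻¹).trans (Equiv.mulRight a)) fun u => ?_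
      simp only [φ, Finset.mem_filter, Finset.mem_univ, true_and, Equiv.trans_apply, Equiv.coe_mulLeft,
        Equiv.coe_mulRight, Subgroup.coe_mul, Subgroup.coe_inv, mul_smul, inv_smul_eq_iff]
    have hT : ∀ y ∈ O, T y = c₀ := by
      intro y hy
      have hgy : g⁻¹ • y ∈ O := by
        obtain ⟨u, rfl⟩ := (hfib y).1 hy
        refine Finset.mem_filter.2 ⟨Finset.mem_univ _, ?_⟩
        obtain ⟨p, hp, hpy⟩ := hpos (g⁻¹ • φ u)
        exact dblRep_unique P hp (mul_mem (inv_mem hg) (hUJ u.2)) (hpy.trans (mul_smul _ _ _).symm)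
      rw [← hcount y hy _ hgy]
      refine congrArg Finset.card (Finset.filter_congr fun u _ => ?_)
      rw [mul_smul, smul_eq_iff_eq_inv_smul]
    rw [Finset.sum_congr rfl hT, Finset.sum_const, smul_eq_mul, Nat.card_eq_fintype_card]
    have h1 : dpt P K d.1 ∈ O := (hfib _).2 ⟨1, by simp [φ]⟩
    rw [← Finset.card_univ, Finset.card_eq_sum_card_fiberwise (f := φ) (t := O)
      (fun u _ => (hfib _).2 ⟨u, rfl⟩),
      Finset.sum_congr rfl fun y hy => hcount _ h1 y hy, Finset.sum_const, smul_eq_mul]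
  · refine Finset.sum_eq_zero fun y hy => ?_
    rw [Finset.card_eq_zero, Finset.filter_eq_empty_iff]
    intro u _ hu
    obtain ⟨p, hp, hpy⟩ := hpos y
    rw [(Finset.mem_filter.1 hy).2] at hpy
    rw [← hpy, ← mul_smul] at hu
    have hu' : ((g * (u : G) * p * nw P d.1 : G) : G ⧸ Pk P K) = ((p * nw P d.1 : G) : G ⧸ Pk P K) := hu
    rw [QuotientGroup.eq] at hu'
    have hgu : g * (u : G) ∈ Pk P J := mul_mem hg (hUJ u.2)
    set c := p⁻¹ * (g * (u : G))⁻¹ * p
    have hcJ : c ∈ Pk P J := mul_mem (mul_mem (inv_mem hp) (inv_mem hgu)) hp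
    have hcK : (nw P d.1)⁻¹ * c * nw P d.1 ∈ Pk P K := by
      convert hu' using 1
      simp only [c]
      group
    have hc' := wk_conj_mem P d.2.1 d.2.2 hcJ hcK
    set J' := J.filter fun s => ∃ t ∈ K, d.1⁻¹ * sgen P s * d.1 = sgen P t with hJ'
    have hpu : p⁻¹ * (u : G)⁻¹ * p ∈ U := by
      have := ((Subgroup.mem_normalizer_iff.1 (inv_mem (hUN hp))) _).1 (inv_mem u.2)
      simpa using this
    have hgJ' : p⁻¹ * g * p ∈ Pk P J' := by
      rw [show p⁻¹ * g * p = c⁻¹ * (p⁻¹ * (u : G)⁻¹ * p) by simp only [c]; group]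
      exact mul_mem (inv_mem hc') (B_le_Pk P J' (hUB hpu))
    refine hgood fun s hs => ?_
    rw [← hell J' (Finset.filter_subset _ _) p hgJ'] at hs
    exact (Finset.mem_filter.1 hs).2

open scoped Classical in
/-- The signed count of the fixed orbits. -/
theorem sum_good_eq (J : Finset P.S) [Fintype P.S] :
    ∃ e : ℕ, ∑ K : Finset P.S, (-1 : ℂ) ^ K.card * (Nat.card {d : DblRep P J K // Good P J K d.1} : ℂ) =
      (-1) ^ e := by
  classical
  haveI : Fintype (Weyl P) := Fintype.ofFinite _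
  obtain ⟨w₁, ⟨h1, h2, h3⟩, huniq⟩ := (sys P).existsUnique_ascent (J : Set P.S)
  let A : Weyl P → Finset P.S := fun w => Finset.univ.filter fun t => ℓ w < ℓ (w * sgen P t)
  refine ⟨(A w₁).card, ?_⟩
  have e1 : ∀ K : Finset P.S, (Nat.card {d : DblRep P J K // Good P J K d.1} : ℂ) =
      ∑ w : Weyl P, if (sys P).LMin (J : Set P.S) w ∧ K ⊆ A w ∧ Good P J K w then 1 else 0 := by
    intro K
    rw [Finset.sum_boole, Nat.card_congr (Equiv.subtypeSubtypeEquivSubtypeInter
      (fun d => (sys P).LMin (J : Set P.S) d ∧ (sys P).RMin (K : Set P.S) d) (Good P J K)),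
      Nat.card_eq_fintype_card, Fintype.card_subtype]
    congr 2
    ext w
    simp only [Finset.mem_filter, Finset.mem_univ, true_and, and_assoc]
    refine and_congr_right fun _ => and_congr_left fun _ => ?_
    simp only [A, Finset.subset_iff, Finset.mem_filter, Finset.mem_univ, true_and]
    exact ⟨fun h x hx => h x hx, fun h x hx => h hx⟩
  simp only [e1, Finset.mul_sum]
  rw [Finset.sum_comm]
  have hasc : ∀ w, (sys P).LMin (J : Set P.S) w → ∀ s ∈ J, ∀ t, w⁻¹ * sgen P s * w = sgen P t → t ∈ A w := by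
    intro w hw s hs t ht
    refine Finset.mem_filter.2 ⟨Finset.mem_univ _, ?_⟩
    rw [← ht, show w * (w⁻¹ * sgen P s * w) = sgen P s * w by group]
    exact hw s hs
  rw [Finset.sum_eq_single w₁]
  · rw [Finset.sum_eq_single (A w₁)]
    · rw [if_pos, mul_one]
      refine ⟨h1, subset_rfl, fun s hs => ?_⟩
      obtain ⟨t, ht⟩ := h2 s hs
      exact ⟨t, hasc _ h1 s hs t ht, ht⟩
    · intro K _ hK
      rw [if_neg, mul_zero]
      rintro ⟨-, hKA, hgood⟩
      refine hK (Finset.Subset.antisymm hKA fun t ht => ?_)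
      obtain ⟨s, hs, hst⟩ := h3 t (Finset.mem_filter.1 ht).2
      obtain ⟨t', ht', hst'⟩ := hgood s hs
      rwa [sgen_inj P (hst.symm.trans hst') ]
    · exact fun h => absurd (Finset.mem_univ _) h
  · intro w _ hne
    by_cases hcond : (sys P).LMin (J : Set P.S) w ∧ ∀ s ∈ J, ∃ t, w⁻¹ * sgen P s * w = sgen P t
    · obtain ⟨hw, hwc⟩ := hcond
      obtain ⟨a, haA, ha⟩ : ∃ a ∈ A w, ∀ s ∈ J, w⁻¹ * sgen P s * w ≠ sgen P a := by
        by_contra hh
        push Not at hh
        exact hne (huniq w ⟨hw, hwc, fun t ht => hh t (Finset.mem_filter.2 ⟨Finset.mem_univ _, ht⟩)⟩)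
      have hgood : ∀ K : Finset P.S, Good P J (K.erase a) w ↔ Good P J K w := fun K =>
        ⟨fun h s hs => (h s hs).imp fun t ht => ⟨Finset.mem_of_mem_erase ht.1, ht.2⟩, fun h s hs => by
          obtain ⟨t, ht, hst⟩ := h s hs
          exact ⟨t, Finset.mem_erase.2 ⟨fun e => ha s hs (e ▸ hst), ht⟩, hst⟩⟩
      have hins : ∀ K : Finset P.S, Good P J (insert a K) w ↔ Good P J K w := fun K => by
        rw [← hgood (insert a K), ← hgood K, Finset.erase_insert_eq_erase]
      refine Finset.sum_involution (fun K _ => if a ∈ K then K.erase a else insert a K) ?_ ?_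
        (fun K _ => Finset.mem_univ _) ?_
      · intro K _
        by_cases haK : a ∈ K
        · have hA' : K.erase a ⊆ A w ↔ K ⊆ A w :=
            ⟨fun h => by rw [← Finset.insert_erase haK]; exact Finset.insert_subset haA h,
              fun h => (Finset.erase_subset a K).trans h⟩
          rw [if_pos haK]
          simp only [hgood, hA']
          rw [← Finset.card_erase_add_one haK, pow_succ]
          ring
        · have hA' : insert a K ⊆ A w ↔ K ⊆ A w := by
            rw [Finset.insert_subset_iff]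
            exact and_iff_right haA
          rw [if_neg haK]
          simp only [hins, hA']
          rw [Finset.card_insert_of_notMem haK, pow_succ]
          ring
      · intro K _ _
        by_cases haK : a ∈ K
        · rw [if_pos haK]
          exact fun e => Finset.notMem_erase a K (e.symm ▸ haK)
        · rw [if_neg haK]
          exact fun e => haK (e ▸ Finset.mem_insert_self a K)
      · intro K _
        by_cases haK : a ∈ K
        · simp [haK, Finset.insert_erase]
        · simp [haK, Finset.erase_insert]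
    · refine Finset.sum_eq_zero fun K _ => ?_
      rw [if_neg, mul_zero]
      exact fun h => hcond ⟨h.1, fun s hs => (h.2.2 s hs).imp fun t ht => ht.2⟩
  · exact fun h => absurd (Finset.mem_univ _) h

end Count

section Coset

variable [Fintype G] {p : ℕ} [Fact p.Prime]

open scoped Classical in
/-- The elements of order prime to `p` in a coset of a normalised `p`-subgroup form one orbit. -/
theorem card_regular_mul (U : Subgroup G) (hU : IsPGroup p U) {g : G}
    (hgU : g ∈ Subgroup.normalizer (U : Set G)) (hg : ¬ p ∣ orderOf g) :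
    (Finset.univ.filter fun u : U => ¬ p ∣ orderOf (g * (u : G))).card *
        Nat.card ↥(U ⊓ Subgroup.centralizer {g}) = Nat.card U ∧
      ∀ u : U, ¬ p ∣ orderOf (g * (u : G)) → ∃ a : U, g * (u : G) = (a : G) * g * (a : G)⁻¹ := by
  classical
  set R := Finset.univ.filter fun u : U => ¬ p ∣ orderOf (g * (u : G))
  have hgi : ∀ a : U, g⁻¹ * (a : G) * g * (a : G)⁻¹ ∈ U := fun a => by
    have := (Subgroup.mem_normalizer_iff.1 (inv_mem hgU) _).1 a.2
    rw [inv_inv] at this
    exact mul_mem this (inv_mem a.2)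
  let φ : U → U := fun a => ⟨g⁻¹ * (a : G) * g * (a : G)⁻¹, hgi a⟩
  have hφ : ∀ a : U, g * ((φ a : U) : G) = (a : G) * g * (a : G)⁻¹ := fun a => by
    simp only [φ]; group
  have hφR : ∀ a, φ a ∈ R := fun a => by
    refine Finset.mem_filter.2 ⟨Finset.mem_univ _, ?_⟩
    rw [hφ, ← SemiconjBy.orderOf_eq (a : G) (show (a : G) * g = (a : G) * g * (a : G)⁻¹ * (a : G) by group)]
    exact hg
  -- the centraliser counts
  let C : U → Finset U := fun x => Finset.univ.filter fun c : U => Commute (g * (x : G)) (c : G)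
  obtain ⟨i, hi⟩ : ∃ i, p ^ (Nat.card G).factorization p * i ≡ 1 [MOD ordCompl[p] (Nat.card G)] := by
    have hco : (p ^ (Nat.card G).factorization p).Coprime (ordCompl[p] (Nat.card G)) :=
      ((Fact.out : p.Prime).coprime_iff_not_dvd.2
        (Nat.not_dvd_ordCompl Fact.out Nat.card_pos.ne')).pow_left _
    obtain ⟨i, -, hi⟩ := Nat.exists_mul_mod_eq_of_coprime 1 hco.symm.symm (Nat.ordCompl_pos p Nat.card_pos.ne').ne'
    exact ⟨i, hi⟩
  have hpart : ∀ (y : G) (c : U), ¬ p ∣ orderOf y → Commute y (c : G) →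
      (y * (c : G)) ^ (p ^ (Nat.card G).factorization p * i) = y := by
    intro y c hy hc
    rw [hc.mul_pow]
    have h1 : (c : G) ^ (p ^ (Nat.card G).factorization p * i) = 1 := by
      obtain ⟨k, hk⟩ := IsPGroup.iff_orderOf.1 hU c
      rw [← Subgroup.orderOf_coe] at hk
      refine orderOf_dvd_iff_pow_eq_one.1 (dvd_mul_of_dvd_left ?_ i)
      rw [hk]
      exact Nat.pow_dvd_pow p (((Fact.out : p.Prime).pow_dvd_iff_le_factorization Nat.card_pos.ne').1
        (hk ▸ orderOf_dvd_natCard _))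
    have h2 : y ^ (p ^ (Nat.card G).factorization p * i) = y := by
      conv_rhs => rw [← pow_one y]
      rw [pow_eq_pow_iff_modEq]
      refine hi.of_dvd ?_
      refine (Nat.Coprime.dvd_of_dvd_mul_left ?_ ((Nat.ordProj_mul_ordCompl_eq_self (Nat.card G) p).symm ▸
        orderOf_dvd_natCard y))
      exact (((Fact.out : p.Prime).coprime_iff_not_dvd.2 hy).symm).pow_right _
    rw [h1, h2, mul_one]
  have hle : ∑ x ∈ R, (C x).card ≤ Nat.card U := by
    rw [← Finset.card_sigma, Nat.card_eq_fintype_card, ← Finset.card_univ]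
    refine Finset.card_le_card_of_injOn (fun z => z.1 * z.2) (fun z _ => Finset.mem_univ _) ?_
    rintro ⟨x, c⟩ hz ⟨x', c'⟩ hz' (he : x * c = x' * c')
    simp only [Finset.mem_coe, Finset.mem_sigma, R, C, Finset.mem_filter, Finset.mem_univ, true_and] at hz hz'
    have e1 := hpart _ c hz.1 hz.2
    have e2 := hpart _ c' hz'.1 hz'.2
    rw [mul_assoc, ← Subgroup.coe_mul, he, Subgroup.coe_mul, ← mul_assoc, e2] at e1
    obtain rfl : x = x' := Subtype.ext (mul_left_cancel e1).symm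
    rw [mul_left_cancel he]
  set V := U ⊓ Subgroup.centralizer ({g} : Set G)
  have hV : ∀ a, (C (φ a)).card = Nat.card V := by
    intro a
    rw [Nat.card_eq_fintype_card]
    refine (Finset.card_bij (s := (Finset.univ : Finset V))
      (fun c _ => (⟨(a : G) * (c : G) * (a : G)⁻¹, mul_mem (mul_mem a.2 c.2.1) (inv_mem a.2)⟩ : U))
      ?_ ?_ ?_).symm
    · intro c _
      refine Finset.mem_filter.2 ⟨Finset.mem_univ _, ?_⟩
      rw [hφ]
      have hcg : (c : G) * g = g * (c : G) := Subgroup.mem_centralizer_singleton_iff.1 c.2.2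
      show _ = _
      calc (a : G) * g * (a : G)⁻¹ * ((a : G) * c * (a : G)⁻¹) = (a : G) * (g * c) * (a : G)⁻¹ := by group
        _ = (a : G) * (c * g) * (a : G)⁻¹ := by rw [hcg]
        _ = _ := by group
    · intro c _ c' _ h
      exact Subtype.ext (mul_left_cancel (mul_right_cancel (congrArg Subtype.val h)))
    · intro d hd
      have hd' : (g * (φ a : G)) * d = (d : G) * (g * (φ a : G)) := (Finset.mem_filter.1 hd).2
      rw [hφ] at hd'
      refine ⟨⟨(a : G)⁻¹ * d * a, U.mul_mem (U.mul_mem (U.inv_mem a.2) d.2) a.2,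
        Subgroup.mem_centralizer_singleton_iff.2 ?_⟩, Finset.mem_univ _, Subtype.ext (by group)⟩
      calc (a : G)⁻¹ * d * a * g = (a : G)⁻¹ * (d * ((a : G) * g * (a : G)⁻¹)) * a := by group
        _ = (a : G)⁻¹ * (((a : G) * g * (a : G)⁻¹) * d) * a := by rw [hd']
        _ = _ := by group
  set R₀ := (Finset.univ : Finset U).image φ with hR₀
  have hfib : ∀ x ∈ R₀, ((Finset.univ : Finset U).filter fun a => φ a = x).card = Nat.card V := by
    intro x hx
    obtain ⟨a, -, rfl⟩ := Finset.mem_image.1 hx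
    rw [Nat.card_eq_fintype_card]
    refine (Finset.card_bij (s := (Finset.univ : Finset V)) (fun c _ => a * ⟨c, c.2.1⟩) ?_ ?_ ?_).symm
    · intro c _
      refine Finset.mem_filter.2 ⟨Finset.mem_univ _, Subtype.ext (mul_left_cancel (a := g) ?_)⟩
      rw [hφ, hφ, Subgroup.coe_mul]
      have hcg : (c : G) * g = g * (c : G) := Subgroup.mem_centralizer_singleton_iff.1 c.2.2
      calc (a : G) * (c : G) * g * ((a : G) * (c : G))⁻¹ = (a : G) * ((c : G) * g) * (c : G)⁻¹ * (a : G)⁻¹ := by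
            group
        _ = _ := by rw [hcg]; group
    · intro c _ c' _ h
      exact Subtype.ext (congrArg (fun z : U => (z : G)) (mul_left_cancel h))
    · intro b hb
      have hb' : g * (φ b : G) = g * (φ a : G) := by rw [(Finset.mem_filter.1 hb).2]
      rw [hφ, hφ] at hb'
      refine ⟨⟨(a : G)⁻¹ * b, U.mul_mem (U.inv_mem a.2) b.2, Subgroup.mem_centralizer_singleton_iff.2 ?_⟩,
        Finset.mem_univ _, Subtype.ext (by simp)⟩
      calc (a : G)⁻¹ * b * g = (a : G)⁻¹ * ((b : G) * g * (b : G)⁻¹) * b := by group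
        _ = (a : G)⁻¹ * ((a : G) * g * (a : G)⁻¹) * b := by rw [hb']
        _ = _ := by group
  have hU₀ : Nat.card U = R₀.card * Nat.card V := by
    rw [Nat.card_eq_fintype_card (α := U), ← Finset.card_univ,
      Finset.card_eq_sum_card_image φ, Finset.sum_congr rfl hfib, Finset.sum_const, smul_eq_mul]
  have hsub : R₀ ⊆ R := Finset.image_subset_iff.2 fun a _ => hφR a
  have heq : R₀ = R := by
    refine Finset.Subset.antisymm hsub fun x hx => ?_
    by_contra hx0
    have h1 : (C x).card + ∑ y ∈ R₀, (C y).card ≤ ∑ y ∈ R, (C y).card := by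
      rw [← Finset.sum_insert (f := fun y => (C y).card) hx0]
      exact Finset.sum_le_sum_of_subset (Finset.insert_subset hx hsub)
    have h2 : ∑ y ∈ R₀, (C y).card = R₀.card * Nat.card V := by
      have : ∀ y ∈ R₀, (C y).card = Nat.card V := fun y hy => by
        obtain ⟨a, -, rfl⟩ := Finset.mem_image.1 hy
        exact hV a
      rw [Finset.sum_congr rfl this, Finset.sum_const, smul_eq_mul]
    have h3 : 0 < (C x).card := Finset.card_pos.2 ⟨1, by simp [C]⟩
    omega
  refine ⟨by rw [← heq]; exact hU₀.symm, fun u hu => ?_⟩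
  have : u ∈ R₀ := heq ▸ Finset.mem_filter.2 ⟨Finset.mem_univ _, hu⟩
  obtain ⟨a, -, rfl⟩ := Finset.mem_image.1 this
  exact ⟨a, hφ a⟩

end Coset

open scoped Classical in
/-- The Steinberg character at an element of order prime to `p`. -/
theorem stChar_semisimple [Fintype G] [Fintype P.S] {p : ℕ} [Fact p.Prime]
    (hvan : ∀ x : G, p ∣ orderOf x → stChar P x = 0)
    (U : Finset P.S → Subgroup G) (hUB : ∀ J, U J ≤ P.B) (hUp : ∀ J, IsPGroup p (U J))
    (hUN : ∀ J, Pk P J ≤ Subgroup.normalizer (U J : Set G))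
    (htrans : ∀ (J K : Finset P.S) w, (sys P).LMin (J : Set P.S) w → Good P J K w →
      ∀ x ∈ Pk P J, ∃ u ∈ U J, (nw P w)⁻¹ * (u⁻¹ * x) * nw P w ∈ Pk P K)
    {g : G} (hg : ¬ p ∣ orderOf g) :
    ∃ V : Subgroup G, IsPGroup p V ∧ V ≤ Subgroup.centralizer {g} ∧
      (stChar P g = (Nat.card V : ℂ) ∨ stChar P g = -(Nat.card V : ℂ)) := by
  classical
  have hcl := CfsgLib.Char.IsIrrCharacter.isClassFunction (isIrrCharacter_stChar P)
  have hex : ∃ n, ∃ J : Finset P.S, J.card = n ∧ ∃ c : G, c⁻¹ * g * c ∈ Pk P J := by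
    refine ⟨_, Finset.univ, rfl, 1, ?_⟩
    obtain ⟨w, hw⟩ := exists_cell P (1⁻¹ * g * 1)
    refine (mem_Pk P).2 ⟨w, ?_, hw⟩
    obtain ⟨l, hl⟩ := sgen_gen P w
    exact ⟨l, fun i _ => Finset.mem_coe.2 (Finset.mem_univ i), hl⟩
  obtain ⟨J, hJn, c, hc⟩ := Nat.find_spec hex
  set g₁ := c⁻¹ * g * c with hg₁
  have hord : orderOf g₁ = orderOf g :=
    (SemiconjBy.orderOf_eq c (show c * g₁ = g * c by rw [hg₁]; group))
  have hell : ∀ J' ⊆ J, ∀ d : G, d⁻¹ * g₁ * d ∈ Pk P J' → J' = J := by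
    intro J' hJ' d hd
    refine Finset.eq_of_subset_of_card_le hJ' ?_
    rw [hJn]
    exact Nat.find_min' hex ⟨J', rfl, c * d, by convert hd using 1; rw [hg₁]; group⟩
  have hgN : g₁ ∈ Subgroup.normalizer (U J : Set G) := hUN J hc
  have hg' : ¬ p ∣ orderOf g₁ := hord.symm ▸ hg
  obtain ⟨hcard, hconj⟩ := card_regular_mul (U J) (hUp J) hgN hg'
  set V₁ := U J ⊓ Subgroup.centralizer ({g₁} : Set G) with hV₁
  obtain ⟨e, he⟩ := sum_good_eq P J
  -- the sum over the coset
  have hX1 : ∑ u : U J, stChar P (g₁ * (u : G)) =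
      ((Finset.univ.filter fun u : U J => ¬ p ∣ orderOf (g₁ * (u : G))).card : ℂ) * stChar P g₁ := by
    rw [← nsmul_eq_mul, ← Finset.sum_const, Finset.sum_filter]
    refine Finset.sum_congr rfl fun u _ => ?_
    by_cases h : p ∣ orderOf (g₁ * (u : G))
    · rw [if_neg (not_not.2 h)]
      exact hvan _ h
    · rw [if_pos h]
      obtain ⟨a, ha⟩ := hconj u h
      rw [ha, hcl]
  have hX2 : ∑ u : U J, stChar P (g₁ * (u : G)) = (Nat.card (U J) : ℂ) * (-1) ^ e := by
    simp only [stChar_eq, Cfsg.fixedPointCharacter]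
    rw [Finset.sum_comm, ← he, Finset.mul_sum]
    refine Finset.sum_congr rfl fun K _ => ?_
    rw [← Finset.mul_sum, ← Nat.cast_sum, sum_fix_radical P (U J) (hUB J) (hUN J) K (htrans J K) hc hell]
    push_cast
    ring
  have hval : stChar P g₁ = (Nat.card V₁ : ℂ) * (-1) ^ e := by
    have h := hX1.symm.trans hX2
    rw [← hcard] at h
    have hR : ((Finset.univ.filter fun u : U J => ¬ p ∣ orderOf (g₁ * (u : G))).card : ℂ) ≠ 0 := by
      refine Nat.cast_ne_zero.2 (Finset.card_pos.2 ⟨1, ?_⟩).ne'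
      simp [hg']
    refine mul_left_cancel₀ hR (h.trans ?_)
    push_cast
    rw [mul_assoc]
  have hgg : stChar P g = stChar P g₁ := by
    rw [← hcl g₁ c, show c * g₁ * c⁻¹ = g by rw [hg₁]; group]
  refine ⟨V₁.map (MulAut.conj c).toMonoidHom, ((hUp J).to_le inf_le_left).map _, ?_, ?_⟩
  · rintro _ ⟨x, hx, rfl⟩
    have hx' := Subgroup.mem_centralizer_singleton_iff.1 hx.2
    rw [Subgroup.mem_centralizer_singleton_iff]
    simp only [MulEquiv.coe_toMonoidHom, MulAut.conj_apply]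
    calc c * x * c⁻¹ * g = c * (x * g₁) * c⁻¹ := by rw [hg₁]; group
      _ = c * (g₁ * x) * c⁻¹ := by rw [hx']
      _ = _ := by rw [hg₁]; group
  · rw [hgg, hval, Subgroup.card_map_of_injective (MulEquiv.injective _)]
    rcases neg_one_pow_eq_or ℂ e with h | h <;> simp [h]

end CfsgLib.BN
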